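import Groth.Agent.FibVanLib.Noeth
import Groth.Agent.QCohLib.Extend
import Groth.Agent.QCohLib.FTCrit
import Groth.Agent.DevissLib.Basic
import Groth.Agent.S0032

/-!
# Vanishing above the fibre dimension for quasi-coherent modules, Noetherian affine base
-/

set_option autoImplicit false

universe u

open CategoryTheory CategoryTheory.Limits AlgebraicGeometry TopologicalSpace Opposite

namespace FibVanLib

section Approx

variable {X : Scheme.{u}} [IsNoetherian X]

/-- Finitely many sections lie in a coherent submodule. -/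
theorem exists_coh_through (N : X.Modules) [Coh.IsQCoh N] {α : Type*} [Finite α] (U : α → X.Opens)
    (hU : ∀ a, IsAffineOpen (U a)) (s : ∀ a, Γ(N, U a)) :
    ∃ (G : X.Modules) (φ : G ⟶ N), Mono φ ∧ Coh.IsCoh G ∧ ∀ a, ∃ t : Γ(G, U a), φ.app (U a) t = s a := by
  classical
  have : Fintype α := Fintype.ofFinite α
  suffices h : ∀ S : Finset α, ∃ (G : X.Modules) (φ : G ⟶ N), Coh.IsCoh G ∧
      ∀ a ∈ S, ∃ t : Γ(G, U a), φ.app (U a) t = s a by
    obtain ⟨G, φ, hG, ht⟩ := h Finset.univ
    refine ⟨cokernel (kernel.ι φ), Abelian.factorThruCoimage φ, inferInstance,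
      QCohLib.isCoh_cokernel _ (@QCohLib.isQCoh_kernel _ _ _ φ hG.1 _) hG, fun a => ?_⟩
    obtain ⟨t, ht⟩ := ht a (Finset.mem_univ a)
    refine ⟨(cokernel.π (kernel.ι φ)).app (U a) t, ?_⟩
    have e : Abelian.coimage.π φ ≫ Abelian.factorThruCoimage φ = φ := Abelian.coimage.fac φ
    exact (congrArg (fun ψ : G ⟶ N => ψ.app (U a) t) e).trans ht
  intro S
  induction S using Finset.induction_on with
  | empty =>
    exact ⟨kernel (𝟙 N), kernel.ι _, ⟨QCohLib.isQCoh_kernel _, QCohLib.isFT_of_isZero (isZero_kernel_of_mono _)⟩,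
      fun a ha => absurd ha (Finset.notMem_empty a)⟩
  | insert a S ha ih =>
    obtain ⟨G, φ, hG, hφ⟩ := ih
    obtain ⟨L, hL, hs⟩ := QCohLib.LocSub.exists_ft_through (F := N) (U a) (hU a) (s a)
    have hLc : Coh.IsCoh L.toModules := ⟨L.isQCoh_toModules hL, L.isFT_toModules hL⟩
    refine ⟨G ⊞ L.toModules, biprod.desc φ L.ι, DevissLib.isCoh_biprod hG hLc, fun b hb => ?_⟩
    rcases Finset.mem_insert.mp hb with rfl | hb
    · refine ⟨(biprod.inr : L.toModules ⟶ G ⊞ L.toModules).app (U b) (L.lift _ hs), ?_⟩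
      exact (congrArg (fun ψ : L.toModules ⟶ N => ψ.app (U b) (L.lift _ hs)) (biprod.inr_desc φ L.ι)).trans (L.ι_lift _ hs)
    · obtain ⟨t, ht⟩ := hφ b hb
      refine ⟨(biprod.inl : G ⟶ G ⊞ L.toModules).app (U b) t, ?_⟩
      exact (congrArg (fun ψ : G ⟶ N => ψ.app (U b) t) (biprod.inl_desc φ L.ι)).trans ht

end Approx

open FormalLib in
/-- **Vanishing above the fibre dimension, Noetherian affine base.** -/
theorem subsingleton_HH_noeth {S X : Scheme.{u}} (f : X ⟶ S) [IsProper f] [IsAffine S]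
    [IsLocallyNoetherian S] (d : ℕ) (hd : ∀ s : S, topologicalKrullDim ↥(f.fiber s) ≤ d)
    (N : X.Modules) [Coh.IsQCoh N] (p : ℕ) (hp : d < p) : Subsingleton (Coh.HH X N p) := by
  -- coherent modules
  have hcoh : ∀ (G : X.Modules), Coh.IsCoh G → Subsingleton (Coh.HH X G p) := fun G hG => by
    have : Coh.IsQCoh G := hG.1
    obtain ⟨e⟩ := Groth.Agent.S0032.result f G p
    have : Subsingleton ↑(((Coh.RpushAb f p).obj (Coh.toAb G)).obj.obj (op ⊤)) := ⟨fun a b => by
      refine TopCat.Presheaf.section_ext ((Coh.RpushAb f p).obj (Coh.toAb G)) ⊤ a b fun x _ => ?_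
      have := AddCommGrpCat.subsingleton_of_isZero (isZero_stalk_rpushAb f x d (hd x) G hG p hp)
      exact Subsingleton.elim _ _⟩
    exact e.toEquiv.subsingleton
  let A : Type u := Γ(S, ⊤)
  have : IsNoetherianRing A := IsLocallyNoetherian.component_noetherian ⟨⊤, isAffineOpen_top S⟩
  letI : X.Over (Spec (CommRingCat.of A)) := ⟨f ≫ S.isoSpec.hom⟩
  have : IsProper (X ↘ Spec (CommRingCat.of A)) := inferInstanceAs (IsProper (f ≫ S.isoSpec.hom))
  have : IsLocallyNoetherian X := LocallyOfFiniteType.isLocallyNoetherian f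
  have : CompactSpace X := QuasiCompact.compactSpace_of_compactSpace f
  have : IsNoetherian X := {}
  obtain ⟨C⟩ := exists_setup (A := A) (X := X)
  have hN : Coh.IsQCoh N := ‹_›
  refine ⟨fun x y => ?_⟩
  suffices h : ∀ x : Coh.HH X N p, x = 0 by rw [h x, h y]
  intro x
  obtain ⟨z, rfl⟩ := C.surj N hN p x
  let c := (z : GradedCechLib.Cochain (sysOf A C.V N) p)
  obtain ⟨G, φ, hφ, hG, ht⟩ := exists_coh_through N (fun J : Fin (p + 1) → Fin C.m => (GradedCechLib.rng J).inf C.V)
    (fun J => C.caps _ (GradedCechLib.rng_nonempty J)) (fun J => (toSec A N _).symm (c J))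
  choose t ht using ht
  let c' : GradedCechLib.Cochain (sysOf A C.V G) p := fun J => toSec A G _ (t J)
  have hc : cochainMap (sysMap C.V φ) p c' = c := funext fun J => ht J
  have hinj : Function.Injective (cochainMap (sysMap (A := A) C.V φ) (p + 1)) := fun a b e =>
    funext fun J => QCohLib.app_injective_of_mono φ _ (congrFun e J)
  let z' : Zc (sysOf A C.V G) p := ⟨c', LinearMap.mem_ker.mpr (hinj (by
    rw [← dd_cochainMap, hc, map_zero]; exact z.2))⟩
  have hz : zMap (sysMap C.V φ) p z' = z := Subtype.ext hc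
  rw [← hz, ← C.nat G N hG.1 hN φ p z']
  rw [@Subsingleton.elim _ (hcoh G hG) (C.κ G hG.1 p z') 0]
  exact map_zero _

end FibVanLib
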