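import Groth.Agent.FibVanLib.Model
import Groth.Agent.FibVanLib.QCoh

/-!
# Vanishing above the fibre dimension for proper morphisms over any base
-/

set_option autoImplicit false

universe u

open CategoryTheory CategoryTheory.Limits AlgebraicGeometry Opposite TopologicalSpace
open NoethApproxLib

namespace FibVanLib

/-- A Noetherian proper model over a neighbourhood, with small fibres. -/
theorem exists_nhd_vanish_affine {X S : Scheme.{u}} (f : X ⟶ S) [IsProper f] [IsAffine S] (s : S) (d : ℕ)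
    (hd : topologicalKrullDim ↥(f.fiber s) ≤ d) :
    ∃ W : S.Opens, s ∈ W ∧ IsAffineOpen W ∧ ∀ W' : S.Opens, IsAffineOpen W' → W' ≤ W →
      ∀ (M : (f ⁻¹ᵁ W' : Scheme.{u}).Modules), Coh.IsQCoh M → ∀ p, d < p →
        Subsingleton (Coh.HH (f ⁻¹ᵁ W' : Scheme.{u}) M p) := by
  obtain ⟨P, -, hP⟩ := exists_proper_system f
  obtain ⟨i⟩ := IsCofiltered.nonempty (C := P.Jᵒᵖ)
  haveI := (hP i).1
  haveI hpr : IsProper (P.D.obj i).hom := (hP i).2
  haveI := P.lfp i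
  obtain ⟨B⟩ := exists_approx S
  haveI : ∀ (j k : B.Jᵒᵖ) (a : j ⟶ k), IsAffineHom (B.D.map a) := fun _ _ a ↦ B.affine a
  obtain ⟨⟨j⟩, ⟨M₀⟩⟩ := DescFP.exists_model B.isLimit (P.D.obj i).hom
  haveI := M₀.lfp
  haveI := M₀.qc
  haveI := M₀.qs
  haveI := isDirected_tail B j
  haveI : Nonempty {c : B.J // j ≤ c} := ⟨⟨j, le_rfl⟩⟩
  obtain ⟨⟨c₀⟩, hc₀⟩ := ConsLib.exists_at_isProper (tailSys B j) M₀.p (by
    show IsProper (pullback.snd M₀.p (B.proj j))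
    rw [← M₀.sq.isoPullback_inv_snd]
    infer_instance)
  let M' := M₀.push (homOfLE c₀.2).op
  haveI : IsProper M'.p := hc₀
  let b : B.J := c₀.1
  let ι : X ⟶ pullback M'.p (B.proj b) := P.proj i ≫ M'.sq.isoPullback.hom
  have hι : ι ≫ pullback.snd M'.p (B.proj b) = f := by
    show (P.proj i ≫ M'.sq.isoPullback.hom) ≫ pullback.snd _ _ = f
    rw [Category.assoc, IsPullback.isoPullback_hom_snd, P.proj_hom]
  obtain ⟨c, hc⟩ := exists_stage_fibre_dim B b M'.p ι s (d := (d : WithBot ℕ∞)) (by rw [hι]; exact hd)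
  let A := baseApprox B b M'.p
  let T : Scheme.{u} := B.obj c.1
  let φ : (ι ≫ A.proj c).image ⟶ T := imgι A ι c ≫ pullback.snd M'.p (B.map c.2)
  haveI : IsProper φ := isProper_comp (isClosedImmersion_imageι _) (isProper_snd M'.p (B.map c.2))
  let u : X ⟶ (ι ≫ A.proj c).image := (ι ≫ A.proj c).toImage
  let g : S ⟶ T := B.proj c.1
  have hu : u ≫ φ = f ≫ g := by
    show (ι ≫ A.proj c).toImage ≫ imgι A ι c ≫ pullback.snd M'.p (B.map c.2) = f ≫ g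
    refine (Category.assoc _ _ _).symm.trans ((congrArg (· ≫ pullback.snd M'.p (B.map c.2))
      (ι ≫ A.proj c).toImage_imageι).trans ?_)
    refine (Category.assoc _ _ _).trans
      ((congrArg (ι ≫ ·) (RichLib.LimBC.pbπ_snd (tailSys B b) M'.p (op c))).trans ?_)
    refine (Category.assoc _ _ _).symm.trans (congrArg (· ≫ B.proj c.1) ?_)
    exact hι
  haveI : IsAffineHom u := by
    haveI := A.isAffineHom_proj c
    haveI : IsAffineHom (u ≫ imgι A ι c) := by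
      rw [show u ≫ imgι A ι c = ι ≫ A.proj c from Scheme.Hom.toImage_imageι _]
      infer_instance
    exact IsAffineHom.of_comp u (imgι A ι c)
  haveI : IsAffineHom g := B.isAffineHom_proj c.1
  haveI : IsLocallyNoetherian T := B.isLocallyNoetherian (op c.1)
  obtain ⟨U₀, hU₀, hsU, hsub⟩ := exists_isAffineOpen_mem_and_subset
    (show g s ∈ (⟨_, FibDimLib.isOpen_fiber_dim_le φ φ.isClosedMap (d : WithBot ℕ∞)⟩ : T.Opens) from hc)
  refine ⟨g ⁻¹ᵁ U₀, hsU, hU₀.preimage g, fun W' hW' hle M hM p hp => ?_⟩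
  have hle' : f ⁻¹ᵁ W' ≤ u ⁻¹ᵁ (φ ⁻¹ᵁ U₀) := by
    rw [← Scheme.Hom.comp_preimage, hu, Scheme.Hom.comp_preimage]
    exact f.preimage_mono hle
  let v : (f ⁻¹ᵁ W' : Scheme.{u}) ⟶ (φ ⁻¹ᵁ U₀ : Scheme.{u}) := u.resLE (φ ⁻¹ᵁ U₀) (f ⁻¹ᵁ W') hle'
  haveI : IsAffine (W' : Scheme.{u}) := hW'
  haveI : IsAffineHom W'.ι := inferInstance
  haveI : IsAffineHom (f ⁻¹ᵁ W').ι :=
    MorphismProperty.of_isPullback (isPullback_morphismRestrict f W') inferInstance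
  haveI : IsAffineHom v := by
    haveI : IsAffineHom (v ≫ (φ ⁻¹ᵁ U₀).ι) := by
      rw [Scheme.Hom.resLE_comp_ι]; infer_instance
    exact IsAffineHom.of_comp v (φ ⁻¹ᵁ U₀).ι
  haveI : IsAffine (U₀ : Scheme.{u}) := hU₀
  have hdim : ∀ t : (U₀ : Scheme.{u}), topologicalKrullDim ↥((φ ∣_ U₀).fiber t) ≤ d := fun t => by
    rw [FibDimLib.topologicalKrullDim_fiber_baseChange (isPullback_morphismRestrict φ U₀).flip t]
    exact hsub t.2
  haveI : QuasiCompact v := inferInstance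
  haveI : Coh.IsQCoh ((Coh.push v).obj M) := QCohLib.isQCoh_pushforward v M
  obtain ⟨e⟩ := QCohLib.nonempty_HH_push v M p
  haveI := subsingleton_HH_noeth (φ ∣_ U₀) d hdim ((Coh.push v).obj M) p hp
  exact e.toEquiv.subsingleton

end FibVanLib

namespace FibVanLib

/-- Vanishing transfers along isomorphisms. -/
theorem subsingleton_HH_of_iso {Z Z' : Scheme.{u}} (e : Z ≅ Z') {p : ℕ}
    (h : ∀ (M : Z'.Modules), Coh.IsQCoh M → Subsingleton (Coh.HH Z' M p)) (M : Z.Modules) [Coh.IsQCoh M] :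
    Subsingleton (Coh.HH Z M p) := by
  have : Coh.IsQCoh ((Coh.push e.hom).obj M) := QCohLib.isQCoh_pushforward e.hom M
  obtain ⟨e'⟩ := QCohLib.nonempty_HH_push e.hom M p
  have := h _ this
  exact e'.toEquiv.subsingleton

/-- The preimage of an open of an open subscheme. -/
theorem nonempty_preimage_iso {X Y : Scheme.{u}} (f : X ⟶ Y) (V : Y.Opens) (W : (V : Scheme.{u}).Opens) :
    Nonempty (((f ∣_ V) ⁻¹ᵁ W : Scheme.{u}) ≅ (f ⁻¹ᵁ (V.ι ''ᵁ W) : Scheme.{u})) :=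
  ⟨(f ⁻¹ᵁ V).ι.isoImage ((f ∣_ V) ⁻¹ᵁ W) ≪≫ X.isoOfEq (image_morphismRestrict_preimage f V W)⟩

/-- **Vanishing near a point of small fibre dimension.** -/
theorem exists_nhd_vanish {X Y : Scheme.{u}} (f : X ⟶ Y) [IsProper f] (y : Y) (d : ℕ)
    (hd : topologicalKrullDim ↥(f.fiber y) ≤ d) :
    ∃ V : Y.Opens, y ∈ V ∧ IsAffineOpen V ∧ ∀ W' : Y.Opens, IsAffineOpen W' → W' ≤ V →
      ∀ (M : (f ⁻¹ᵁ W' : Scheme.{u}).Modules), Coh.IsQCoh M → ∀ p, d < p →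
        Subsingleton (Coh.HH (f ⁻¹ᵁ W' : Scheme.{u}) M p) := by
  obtain ⟨W₁, hW₁, hy⟩ := QCohLib.exists_affine_nhd y
  haveI : IsAffine (W₁ : Scheme.{u}) := hW₁
  obtain ⟨W, hyW, hW, hvan⟩ := exists_nhd_vanish_affine (f ∣_ W₁) ⟨y, hy⟩ d (by
    rw [FibDimLib.topologicalKrullDim_fiber_baseChange (isPullback_morphismRestrict f W₁).flip]
    exact hd)
  refine ⟨W₁.ι ''ᵁ W, ⟨⟨y, hy⟩, hyW, rfl⟩, hW.image_of_isOpenImmersion W₁.ι, fun W' hW' hle M hM p hp => ?_⟩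
  have hle₁ : W' ≤ W₁ := hle.trans (W₁.ι_image_le W)
  have e0 : W₁.ι ''ᵁ (W₁.ι ⁻¹ᵁ W') = W' := by
    rw [W₁.ι.image_preimage_eq_opensRange_inf, Scheme.Opens.opensRange_ι, inf_eq_right.mpr hle₁]
  have hW'' : IsAffineOpen (W₁.ι ⁻¹ᵁ W') := by
    rw [← Scheme.Hom.isAffineOpen_iff_of_isOpenImmersion W₁.ι, e0]; exact hW'
  have hle'' : W₁.ι ⁻¹ᵁ W' ≤ W := (W₁.ι.preimage_mono hle).trans (W₁.ι.preimage_image_eq W).le
  obtain ⟨e⟩ := nonempty_preimage_iso f W₁ (W₁.ι ⁻¹ᵁ W')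
  exact subsingleton_HH_of_iso ((X.isoOfEq (congrArg (f ⁻¹ᵁ ·) e0.symm)) ≪≫ e.symm)
    (fun N hN => hvan _ hW'' hle'' N hN p hp) M

/-- Stalks of higher direct images vanish above the dimension of the fibre. -/
theorem isZero_stalk_rpushAb_qcoh {X Y : Scheme.{u}} (f : X ⟶ Y) [IsProper f] (y : Y) (d : ℕ)
    (hd : topologicalKrullDim ↥(f.fiber y) ≤ d) (M : X.Modules) [Coh.IsQCoh M] (p : ℕ) (hp : d < p) :
    IsZero (TopCat.Presheaf.stalk ((Coh.RpushAb f p).obj (Coh.toAb M)).obj y) := by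
  obtain ⟨V, hy, -, hV⟩ := exists_nhd_vanish f y d hd
  exact RpushLib.isZero_stalk_rpushAb f M p y V hy fun W hW hWV => hV W hW hWV _ inferInstance p hp

/-- An affine neighbourhood over which all quasi-coherent modules have small cohomological amplitude. -/
theorem exists_affine_nhd_isZero_rpushAb {X Y : Scheme.{u}} (f : X ⟶ Y) [IsProper f] (y : Y) (d : ℕ)
    (hd : topologicalKrullDim ↥(f.fiber y) ≤ d) :
    ∃ V : Y.Opens, y ∈ V ∧ IsAffineOpen V ∧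
      ∀ (M : (↑(f ⁻¹ᵁ V) : Scheme.{u}).Modules) (i : ℕ), Coh.IsQCoh M → d < i →
        IsZero ((Coh.RpushAb (f ∣_ V) i).obj (Coh.toAb M)) := by
  obtain ⟨V, hy, hVa, hV⟩ := exists_nhd_vanish f y d hd
  refine ⟨V, hy, hVa, fun M i hM hi => RpushLib.isZero_rpushAb (f ∣_ V) M i fun t =>
    ⟨⊤, trivial, fun W hW _ => ?_⟩⟩
  obtain ⟨e⟩ := nonempty_preimage_iso f V W
  exact subsingleton_HH_of_iso e
    (fun N hN => hV _ (hW.image_of_isOpenImmersion V.ι) (V.ι_image_le W) N hN i hi) _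

end FibVanLib
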