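import Groth.Agent.QCohLib.LocSub
import Groth.Agent.QCohLib.Gen

/-!
# Sections of a globally generated module on affine opens
-/

set_option autoImplicit false

universe u

open CategoryTheory CategoryTheory.Limits AlgebraicGeometry TopologicalSpace Opposite
open QCohLib

namespace FibVanLib

variable {X : Scheme.{u}}

/-- Sections locally in the span of a family of global sections. -/
def famSub (F : X.Modules) {ι : Type u} (s : ι → Γ(F, ⊤)) : LocSub F where
  mem V a := ∀ q : X, q ∈ V → ∃ (W : X.Opens) (h : W ≤ V), q ∈ W ∧ F.presheaf.map (homOfLE h).op a ∈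
    Submodule.span Γ(X, W) (Set.range fun i => F.presheaf.map (homOfLE (le_top : W ≤ ⊤)).op (s i))
  zero V q hq := ⟨V, le_rfl, hq, by rw [map_zero]; exact Submodule.zero_mem _⟩
  add {V a b} ha hb q hq := by
    obtain ⟨W, h, hqW, hc⟩ := ha q hq
    obtain ⟨W', h', hqW', hc'⟩ := hb q hq
    refine ⟨W ⊓ W', inf_le_left.trans h, ⟨hqW, hqW'⟩, ?_⟩
    have key : ∀ {W₁ : X.Opens} (hle : W ⊓ W' ≤ W₁) (x : Γ(F, W₁)),
        x ∈ Submodule.span Γ(X, W₁) (Set.range fun i => F.presheaf.map (homOfLE (le_top : W₁ ≤ ⊤)).op (s i)) →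
        F.presheaf.map (homOfLE hle).op x ∈ Submodule.span Γ(X, W ⊓ W')
          (Set.range fun i => F.presheaf.map (homOfLE (le_top : W ⊓ W' ≤ ⊤)).op (s i)) := by
      intro W₁ hle x hx
      induction hx using Submodule.span_induction with
      | mem x hx => obtain ⟨i, rfl⟩ := hx; rw [map_map']; exact Submodule.subset_span ⟨i, rfl⟩
      | zero => rw [map_zero]; exact Submodule.zero_mem _
      | add x y _ _ hx hy => rw [map_add]; exact Submodule.add_mem _ hx hy
      | smul r x _ hx => rw [map_smul']; exact Submodule.smul_mem _ _ hx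
    have h1 := key inf_le_left _ hc
    have h2 := key inf_le_right _ hc'
    rw [map_map'] at h1 h2
    rw [map_add]
    exact Submodule.add_mem _ h1 h2
  smul {V} r {a} ha q hq := by
    obtain ⟨W, h, hqW, hc⟩ := ha q hq
    exact ⟨W, h, hqW, by rw [map_smul']; exact Submodule.smul_mem _ _ hc⟩
  res {V V'} hVV {a} ha q hq := by
    obtain ⟨W, h, hqW, hc⟩ := ha q (hVV hq)
    refine ⟨W ⊓ V', inf_le_right, ⟨hqW, hq⟩, ?_⟩
    obtain ⟨n, c, g, hg⟩ := Submodule.mem_span_set'.1 hc
    have h1 := congr_arg (F.presheaf.map (homOfLE (inf_le_left : W ⊓ V' ≤ W)).op) hg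
    rw [map_map', map_sum] at h1
    rw [map_map']
    refine (show F.presheaf.map _ a = _ from h1.symm) ▸ Submodule.sum_mem _ fun k _ => ?_
    obtain ⟨i, hi⟩ := (g k).2
    rw [map_smul', ← hi, map_map']
    exact Submodule.smul_mem _ _ (Submodule.subset_span ⟨i, rfl⟩)
  local' {V} a h q hq := by
    obtain ⟨W, hW, hqW, hm⟩ := h q hq
    obtain ⟨W', h', hqW', hc⟩ := hm q hqW
    rw [map_map'] at hc
    exact ⟨W', h'.trans hW, hqW', hc⟩

/-- The section attached to a morphism from the structure sheaf. -/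
noncomputable def secOf {F : X.Modules} (φ : Coh.structureModule X ⟶ F) : Γ(F, ⊤) :=
  φ.app ⊤ (1 : Γ(X, ⊤))

theorem app_eq_smul {F : X.Modules} (φ : Coh.structureModule X ⟶ F) (V : X.Opens) (c : Γ(X, V)) :
    φ.app V c = c • F.presheaf.map (homOfLE (le_top : V ≤ ⊤)).op (secOf φ) := by
  have e : F.presheaf.map (homOfLE (le_top : V ≤ ⊤)).op (secOf φ) = φ.app V (1 : Γ(X, V)) :=
    (app_map φ (homOfLE (le_top : V ≤ ⊤)) (1 : Γ(X, ⊤))).symm.trans
      (congrArg (φ.app V) (map_one (X.presheaf.map (homOfLE (le_top : V ≤ ⊤)).op).hom))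
  rw [e]
  refine Eq.trans ?_ (app_smul φ V c (1 : Γ(X, V)))
  exact congrArg (φ.app V) (mul_one c).symm

/-- Sections of a globally generated module on an affine open are combinations of the generators. -/
theorem exists_eq_sum_of_epi {F : X.Modules} [Coh.IsQCoh F] {ι : Type u}
    (e : (∐ fun _ : ι => Coh.structureModule X) ⟶ F) [Epi e] {D : X.Opens} (hD : IsAffineOpen D)
    (a : Γ(F, D)) :
    ∃ (t : Finset ι) (c : ι → Γ(X, D)),
      a = ∑ i ∈ t, (Sigma.ι (fun _ : ι => Coh.structureModule X) i ≫ e).app D (c i) := by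
  classical
  let s : ι → Γ(F, ⊤) := fun i => secOf (Sigma.ι (fun _ : ι => Coh.structureModule X) i ≫ e)
  let S := famSub F s
  have hs : ∀ i, S.mem ⊤ (s i) := fun i q hq =>
    ⟨⊤, le_rfl, hq, Submodule.subset_span ⟨i, rfl⟩⟩
  let j : ι → (Coh.structureModule X ⟶ S.toModules) := fun i => unitHom S.toModules (S.lift (s i) (hs i))
  have hj : ∀ i, j i ≫ S.ι = Sigma.ι (fun _ : ι => Coh.structureModule X) i ≫ e := fun i => by
    refine Scheme.Modules.hom_ext _ _ fun V => ?_
    ext c
    refine Eq.trans ?_ (app_eq_smul _ V c).symm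
    show S.ι.app V ((j i).app V c) = _
    rw [unitHom_app, app_smul, app_map, LocSub.ι_lift]
  have hfac : Sigma.desc j ≫ S.ι = e := Sigma.hom_ext _ _ fun i => by rw [Sigma.ι_desc_assoc, hj]
  haveI : Epi S.ι := by
    have : Epi (Sigma.desc j ≫ S.ι) := by rw [hfac]; infer_instance
    exact epi_of_epi (Sigma.desc j) S.ι
  have hmem : S.mem D a := S.local' a fun q hq => by
    obtain ⟨W, hW, hqW, b, hb⟩ := exists_of_app_epi S.ι D a q hq
    exact ⟨W, hW, hqW, hb ▸ S.ι_app_mem b⟩
  choose W hWD hqW hc using fun q : D => hmem q.1 q.2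
  choose n c g hg using fun q => Submodule.mem_span_set'.1 (hc q)
  choose idx hidx using fun q k => (g q k).2
  obtain ⟨T, hT⟩ := hD.isCompact.elim_finite_subcover (fun q : D => (W q : Set X)) (fun q => (W q).isOpen)
    fun q hq => Set.mem_iUnion.2 ⟨⟨q, hq⟩, hqW ⟨q, hq⟩⟩
  let t : Finset ι := T.biUnion fun q => Finset.univ.image (idx q)
  let st : t → Γ(F, ⊤) := fun i => s i.1
  have hspan : (LocSub.span F ⊤ st).mem D a := by
    intro x hx _
    obtain ⟨q, hqT, hxq⟩ := Set.mem_iUnion₂.1 (hT hx)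
    refine ⟨W q, hWD q, le_top, hxq, fun i => ∑ k ∈ Finset.univ.filter (fun k => idx q k = i.1), c q k, ?_⟩
    rw [← hg q]
    simp only [Finset.sum_smul]
    refine Eq.symm (Eq.trans ?_ (Finset.sum_fiberwise_of_maps_to (g := fun k => idx q k) (t := t)
      (fun k _ => Finset.mem_biUnion.2 ⟨q, hqT, Finset.mem_image_of_mem _ (Finset.mem_univ k)⟩) _))
    rw [← Finset.sum_coe_sort t]
    refine Finset.sum_congr rfl fun i _ => Finset.sum_congr rfl fun k hk => ?_
    rw [← hidx q k, (Finset.mem_filter.1 hk).2]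
  obtain ⟨d, hd⟩ := LocSub.exists_eq_sum hD le_top hspan
  refine ⟨t, fun i => if h : i ∈ t then d ⟨i, h⟩ else 0, hd.trans ?_⟩
  conv_rhs => rw [← Finset.sum_coe_sort t]
  refine Finset.sum_congr rfl fun i _ => ?_
  rw [app_eq_smul]
  show d i • _ = (if h : i.1 ∈ t then d ⟨i.1, h⟩ else 0) • _
  rw [dif_pos i.2]

end FibVanLib
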