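import Groth.Agent.FibVanLib.Stalk
import Groth.Agent.RpushLib.Vanish
import Groth.Agent.FormalLib.Main
import Groth.Agent.CurvLib.SupportVanish
import Groth.Agent.ConsLib.ModLoci
import Groth.Agent.S0059

/-!
# Formal functions at a point, and vanishing above the fibre dimension over Noetherian schemes
-/

set_option autoImplicit false

universe u

open CategoryTheory CategoryTheory.Limits AlgebraicGeometry TopologicalSpace Opposite

namespace FibVanLib

section Support

variable {A : Type u} [CommRing A] [IsNoetherianRing A] {X : Scheme.{u}} [X.Over (Spec (CommRingCat.of A))]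

theorem mem_basicOpen_toGlobal (a : A) (x : X) :
    x ∈ X.basicOpen (show Γ(X, ⊤) from Coh.toGlobal (X ↘ Spec (CommRingCat.of A)) a) ↔
      a ∉ ((X ↘ Spec (CommRingCat.of A)) x : PrimeSpectrum A).asIdeal := by
  have h : (X ↘ Spec (CommRingCat.of A)) ⁻¹ᵁ
      (Spec (CommRingCat.of A)).basicOpen ((Scheme.ΓSpecIso (CommRingCat.of A)).inv a) =
      X.basicOpen (show Γ(X, ⊤) from Coh.toGlobal (X ↘ Spec (CommRingCat.of A)) a) :=
    Scheme.preimage_basicOpen _ _
  rw [← h, basicOpen_eq_of_affine', Iso.inv_hom_id_apply]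
  rfl

/-- `M / J ^ n M` lives over the zero locus of `J`. -/
theorem support_modPow_subset (J : Ideal A) (n : ℕ) (M : X.Modules) [Coh.IsQCoh M] :
    CohB1.support (Formal.modPow J n M) ⊆
      (X ↘ Spec (CommRingCat.of A)) ⁻¹' PrimeSpectrum.zeroLocus (J : Set A) := by
  intro x hx
  by_contra hxT
  obtain ⟨a, haJ, ha⟩ := Set.not_subset.mp (show ¬ ((J : Set A) ⊆
    ((X ↘ Spec (CommRingCat.of A)) x : PrimeSpectrum A).asIdeal) from hxT)
  let D : X.Opens := X.basicOpen (show Γ(X, ⊤) from Coh.toGlobal (X ↘ Spec (CommRingCat.of A)) a)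
  refine hx ((QCohLib.subsingleton_stalk_iff _ _).mpr fun U hU t => ?_)
  obtain ⟨W, hW, hxW, hle⟩ := exists_isAffineOpen_mem_and_subset
    (show x ∈ (U ⊓ D : X.Opens) from ⟨hU, (mem_basicOpen_toGlobal a x).mpr ha⟩)
  refine ⟨W, fun z hz => (hle hz).1, hxW, ?_⟩
  obtain ⟨m, hm⟩ := FormalLib.secMap_modPowπ_surjective (A := A) M J n hW
    (FormalLib.toSec A _ W ((Formal.modPow J n M).presheaf.map (homOfLE (fun z hz => (hle hz).1)).op t))
  have hu : IsUnit (FormalLib.rhoA (X := X) A W (a ^ n)) := by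
    rw [map_pow]
    refine IsUnit.pow n ?_
    have h1 := X.toRingedSpace.isUnit_res_basicOpen (U := ⊤)
      (show Γ(X, ⊤) from Coh.toGlobal (X ↘ Spec (CommRingCat.of A)) a)
    have h2 := IsUnit.map (X.presheaf.map (homOfLE (fun z hz => (hle hz).2 : W ≤ D)).op).hom h1
    change IsUnit ((X.presheaf.map _ ≫ X.presheaf.map _).hom
      (show Γ(X, ⊤) from Coh.toGlobal (X ↘ Spec (CommRingCat.of A)) a)) at h2
    rw [← Functor.map_comp] at h2
    exact h2
  obtain ⟨v, hv⟩ := hu
  have hm' : m ∈ (J ^ n • ⊤ : Submodule A (FormalLib.Sec A M W)) := by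
    have e : m = (a ^ n) • FormalLib.toSec A M W ((↑v⁻¹ : Γ(X, W)) • (FormalLib.toSec A M W).symm m) := by
      rw [FormalLib.smul_toSec, ← mul_smul, ← hv, Units.mul_inv, one_smul, AddEquiv.apply_symm_apply]
    rw [e]
    exact Submodule.smul_mem_smul (Ideal.pow_mem_pow haJ n) Submodule.mem_top
  rw [FormalLib.secMap_modPowπ_eq_zero M J n W hm'] at hm
  exact hm.symm

end Support

section Stalk

variable {X Y : Scheme.{u}} (f : X ⟶ Y) [IsProper f] [IsLocallyNoetherian Y]

/-- Formal functions at a point. -/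
theorem stalk_formal_functions [HasInjectiveResolutions X.Modules] (F : X.Modules) (hF : Coh.IsCoh F)
    (y : Y) (p : ℕ) (X₁ : Scheme.{u}) [X₁.Over (Spec (CommRingCat.of (Y.presheaf.stalk y)))] (g : X₁ ⟶ X)
    (hsq : IsPullback g (X₁ ↘ Spec (CommRingCat.of (Y.presheaf.stalk y))) f (Y.fromSpecStalk y)) :
    Module.Finite (Y.presheaf.stalk y) (((Coh.Rpush f p).obj F).presheaf.stalk y) ∧
    Nonempty (AdicCompletion (IsLocalRing.maximalIdeal (Y.presheaf.stalk y))
        (((Coh.Rpush f p).obj F).presheaf.stalk y) ≃+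
      Formal.HHlim (IsLocalRing.maximalIdeal (Y.presheaf.stalk y)) ((Scheme.Modules.pullback g).obj F) p) := by
  have : Coh.IsQCoh F := hF.1
  have : IsProper (X₁ ↘ Spec (CommRingCat.of (Y.presheaf.stalk y))) :=
    MorphismProperty.of_isPullback hsq inferInstance
  have hP : Coh.IsCoh ((Scheme.Modules.pullback g).obj F) := ConsLib.isCoh_pullback g hF
  obtain ⟨e⟩ := nonempty_stalk_rpush_equiv f F y p g hsq
  obtain ⟨c⟩ := Groth.Agent.S0059.result (Y.presheaf.stalk y)
    (IsLocalRing.maximalIdeal (Y.presheaf.stalk y)) X₁ _ hP p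
  have := FormalLib.finite_HH (A := Y.presheaf.stalk y) _ hP p
  exact ⟨Module.Finite.equiv e.symm,
    ⟨((AdicCompletion.congr (IsLocalRing.maximalIdeal (Y.presheaf.stalk y)) e).toAddEquiv).trans c⟩⟩

/-- **Vanishing above the dimension of the fibre.** -/
theorem subsingleton_stalk_rpush [HasInjectiveResolutions X.Modules] (y : Y) (d : ℕ)
    (hd : topologicalKrullDim ↥(f.fiber y) ≤ d) (F : X.Modules) (hF : Coh.IsCoh F) (p : ℕ) (hp : d < p) :
    Subsingleton (((Coh.Rpush f p).obj F).presheaf.stalk y) := by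
  let B : Type u := Y.presheaf.stalk y
  let m : Ideal B := IsLocalRing.maximalIdeal B
  let X₁ : Scheme.{u} := pullback f (Y.fromSpecStalk y)
  letI : X₁.Over (Spec (CommRingCat.of B)) := ⟨pullback.snd f (Y.fromSpecStalk y)⟩
  let g : X₁ ⟶ X := pullback.fst f (Y.fromSpecStalk y)
  have hsq : IsPullback g (X₁ ↘ Spec (CommRingCat.of B)) f (Y.fromSpecStalk y) :=
    IsPullback.of_hasPullback _ _
  obtain ⟨hfin, ⟨c⟩⟩ := stalk_formal_functions f F hF y p X₁ g hsq
  have : IsProper (X₁ ↘ Spec (CommRingCat.of B)) := MorphismProperty.of_isPullback hsq inferInstance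
  have : IsLocallyNoetherian X₁ := LocallyOfFiniteType.isLocallyNoetherian (X₁ ↘ Spec (CommRingCat.of B))
  have : CompactSpace X₁ := QuasiCompact.compactSpace_of_compactSpace (X₁ ↘ Spec (CommRingCat.of B))
  have : IsNoetherian X₁ := {}
  have hP : Coh.IsCoh ((Scheme.Modules.pullback g).obj F) := ConsLib.isCoh_pullback g hF
  -- the closed fibre
  let T : Set X₁ := (X₁ ↘ Spec (CommRingCat.of B)) ⁻¹' PrimeSpectrum.zeroLocus (m : Set B)
  have hT : IsClosed T := (PrimeSpectrum.isClosed_zeroLocus _).preimage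
    (X₁ ↘ Spec (CommRingCat.of B)).continuous
  have hmem : ∀ t : T, f (g t.1) = y := fun t => by
    have h1 : (X₁ ↘ Spec (CommRingCat.of B)) t.1 = IsLocalRing.closedPoint B :=
      PrimeSpectrum.ext ((IsLocalRing.maximalIdeal.isMaximal B).eq_of_le
        (PrimeSpectrum.isPrime _).ne_top t.2).symm
    have h2 := congrArg (fun φ : X₁ ⟶ Y => φ t.1) hsq.w
    simp only [Scheme.Hom.comp_apply] at h2
    rw [h2, h1]
    exact Scheme.fromSpecStalk_closedPoint
  have hemb : Topology.IsEmbedding g := by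
    have : IsPreimmersion g := MorphismProperty.of_isPullback hsq.flip inferInstance
    exact g.isEmbedding
  have hdim : topologicalKrullDim T ≤ d := by
    let j : T → f ⁻¹' {y} := fun t => ⟨g t.1, hmem t⟩
    have hc : Continuous j :=
      (g.continuous.comp continuous_subtype_val).subtype_mk _
    have hj : Topology.IsInducing j :=
      Topology.IsInducing.of_comp hc continuous_subtype_val
        (hemb.isInducing.comp Topology.IsInducing.subtypeVal)
    exact ((f.fiberHomeo y).symm.isInducing.comp hj).topologicalKrullDim_le.trans hd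
  have hvan : ∀ n, Subsingleton (Formal.HHmodPow m ((Scheme.Modules.pullback g).obj F) p n) := fun n => by
    have : Coh.IsQCoh ((Scheme.Modules.pullback g).obj F) := hP.1
    exact CurvLib.subsingleton_HH_of_support _ hT (support_modPow_subset m (n + 1) _) hdim p hp
  have hlim : Subsingleton (Formal.HHlim m ((Scheme.Modules.pullback g).obj F) p) :=
    ⟨fun a b => Subtype.ext (funext fun n => (hvan n).elim _ _)⟩
  have hc : Subsingleton (AdicCompletion m (((Coh.Rpush f p).obj F).presheaf.stalk y)) :=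
    c.toEquiv.subsingleton
  have h1 := (AdicCompletion.eval_surjective m (((Coh.Rpush f p).obj F).presheaf.stalk y) 1).subsingleton
  refine Submodule.subsingleton_iff B |>.mp (subsingleton_of_bot_eq_top ?_)
  refine (Submodule.eq_bot_of_le_smul_of_le_jacobson_bot m _ hfin.fg_top (fun x _ => ?_)
    (IsLocalRing.maximalIdeal_le_jacobson _)).symm
  have h2 := (Submodule.Quotient.mk_eq_zero (m ^ 1 • ⊤ : Submodule B
    (((Coh.Rpush f p).obj F).presheaf.stalk y))).mp (h1.elim (Submodule.Quotient.mk x) 0)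
  rwa [pow_one] at h2

theorem isZero_stalk_rpushAb (y : Y) (d : ℕ) (hd : topologicalKrullDim ↥(f.fiber y) ≤ d) (F : X.Modules)
    (hF : Coh.IsCoh F) (p : ℕ) (hp : d < p) :
    IsZero (TopCat.Presheaf.stalk ((Coh.RpushAb f p).obj (Coh.toAb F)).obj y) := by
  have : Coh.IsQCoh F := hF.1
  have hN := subsingleton_stalk_rpush f y d hd F hF p hp
  obtain ⟨e⟩ := RpushLib.nonempty_toAb_rpush_iso f F p
  have he := (TopCat.Presheaf.stalkFunctor AddCommGrpCat.{u} y).mapIso
    ((CategoryTheory.sheafToPresheaf _ _).mapIso e)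
  exact (AddCommGrpCat.isZero_of_subsingleton (((Coh.Rpush f p).obj F).presheaf.stalk y)).of_iso he.symm

end Stalk

end FibVanLib
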