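import Groth.Agent.RpushLib.Sections
import Groth.Agent.RpushLib.AffBaseBC
import Groth.Agent.FlatLib.QStalk
import Groth.Agent.AtlasCohLib.FiniteCoh
import Mathlib.AlgebraicGeometry.Pullbacks

/-!
# Stalks of higher direct images as cohomology over the local scheme
-/

set_option autoImplicit false

universe u

open CategoryTheory CategoryTheory.Limits AlgebraicGeometry TopologicalSpace Opposite TensorProduct

namespace FibVanLib

variable {X Y : Scheme.{u}} (f : X ⟶ Y)

/-- The morphism `f⁻¹W → Spec Γ(Y, W)`. -/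
noncomputable def overAff {W : Y.Opens} (hW : IsAffineOpen W) :
    (f ⁻¹ᵁ W : Scheme.{u}) ⟶ Spec (CommRingCat.of Γ(Y, W)) :=
  (f ∣_ W) ≫ hW.isoSpec.hom

theorem overAff_fromSpec {W : Y.Opens} (hW : IsAffineOpen W) :
    overAff f hW ≫ hW.fromSpec = (f ⁻¹ᵁ W).ι ≫ f := by
  rw [overAff, IsAffineOpen.fromSpec, Category.assoc, Iso.hom_inv_id_assoc, morphismRestrict_ι]

theorem isPullback_overAff {W : Y.Opens} (hW : IsAffineOpen W) :
    IsPullback (f ⁻¹ᵁ W).ι (overAff f hW) f hW.fromSpec := by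
  refine (isPullback_morphismRestrict f W).flip.of_iso (Iso.refl _) (Iso.refl _) hW.isoSpec (Iso.refl _)
    ?_ ?_ ?_ ?_
  · exact (Category.comp_id _).trans (Category.id_comp _).symm
  · exact (Category.id_comp _).symm
  · exact (Category.comp_id _).trans (Category.id_comp _).symm
  · rw [Iso.refl_hom, Category.comp_id, IsAffineOpen.fromSpec, Iso.hom_inv_id_assoc]

theorem toGlobal_overAff {W : Y.Opens} (hW : IsAffineOpen W) (a : Γ(Y, W)) :
    Coh.toGlobal (overAff f hW) a = (f ⁻¹ᵁ W).topIso.inv (f.app W a) := by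
  have e : (Scheme.ΓSpecIso Γ(Y, W)).inv ≫ (overAff f hW).appTop = f.app W ≫ (f ⁻¹ᵁ W).topIso.inv := by
    rw [overAff, Scheme.Hom.comp_appTop, IsAffineOpen.isoSpec_hom_appTop,
      Category.assoc, Iso.inv_hom_id_assoc, morphismRestrict_appTop, Scheme.Opens.topIso_inv,
      Scheme.Opens.topIso_inv]
    simp only [Scheme.Hom.app_eq_appLE]
    erw [f.appLE_map, f.map_appLE, f.appLE_map]
    rfl
  exact congr($(e) a)

/-- Isomorphic modules have isomorphic cohomology, linearly. -/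
theorem nonempty_hh_congr {A : Type u} [CommRing A] {Z : Scheme.{u}} (h : Z ⟶ Spec (CommRingCat.of A))
    {M N : Z.Modules} (e : M ≅ N) (p : ℕ) :
    letI := Module.compHom (Coh.HH Z M p) (Coh.toGlobal h)
    letI := Module.compHom (Coh.HH Z N p) (Coh.toGlobal h)
    Nonempty (Coh.HH Z M p ≃ₗ[A] Coh.HH Z N p) := by
  let := Module.compHom (Coh.HH Z M p) (Coh.toGlobal h)
  let := Module.compHom (Coh.HH Z N p) (Coh.toGlobal h)
  refine ⟨LinearEquiv.ofBijective (AtlasCoh.hLin h e.hom p) (Function.bijective_iff_has_inverse.mpr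
    ⟨AtlasCoh.hLin h e.inv p, fun x => ?_, fun x => ?_⟩)⟩
  · show Sheaf.H.map _ p (Sheaf.H.map _ p x) = x
    rw [← Sheaf.H.map_comp_apply, ← Functor.map_comp, e.hom_inv_id, CategoryTheory.Functor.map_id, Sheaf.H.map_id_apply]
  · show Sheaf.H.map _ p (Sheaf.H.map _ p x) = x
    rw [← Sheaf.H.map_comp_apply, ← Functor.map_comp, e.inv_hom_id, CategoryTheory.Functor.map_id, Sheaf.H.map_id_apply]

variable [QuasiCompact f] [QuasiSeparated f] [HasInjectiveResolutions X.Modules]

theorem compactSpace_overAff {W : Y.Opens} (hW : IsAffineOpen W) :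
    CompactSpace (f ⁻¹ᵁ W : Scheme.{u}) :=
  isCompact_iff_compactSpace.mp (f.isCompact_preimage hW.isCompact)

theorem qsSpace_overAff {W : Y.Opens} (hW : IsAffineOpen W) :
    QuasiSeparatedSpace (f ⁻¹ᵁ W : Scheme.{u}) := by
  have : IsAffine (W : Scheme.{u}) := hW
  exact quasiSeparatedSpace_of_quasiSeparated (f ∣_ W)

/-- **The stalk of `R^p f_*` is cohomology over the local scheme.** -/
theorem nonempty_stalk_rpush_equiv (M : X.Modules) [Coh.IsQCoh M] (y : Y) (p : ℕ)
    {X₁ : Scheme.{u}} [X₁.Over (Spec (CommRingCat.of (Y.presheaf.stalk y)))] (g : X₁ ⟶ X)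
    (hsq : IsPullback g (X₁ ↘ Spec (CommRingCat.of (Y.presheaf.stalk y))) f (Y.fromSpecStalk y)) :
    Nonempty (((Coh.Rpush f p).obj M).presheaf.stalk y ≃ₗ[Y.presheaf.stalk y]
      Coh.HH X₁ ((Scheme.Modules.pullback g).obj M) p) := by
  obtain ⟨W, hW, hy⟩ := QCohLib.exists_affine_nhd y
  let A : Type u := Γ(Y, W)
  let B : Type u := Y.presheaf.stalk y
  let : Algebra A B := (Y.presheaf.germ W y hy).hom.toAlgebra
  have : IsLocalization.AtPrime B (hW.primeIdealOf ⟨y, hy⟩).asIdeal := hW.isLocalization_stalk ⟨y, hy⟩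
  have : Module.Flat A B := IsLocalization.flat B (hW.primeIdealOf ⟨y, hy⟩).asIdeal.primeCompl
  let N := (Coh.Rpush f p).obj M
  have : Coh.IsQCoh N := RpushLib.isQCoh_Rpush f M p
  let XW : Scheme.{u} := (f ⁻¹ᵁ W : Scheme.{u})
  have := compactSpace_overAff f hW
  have := qsSpace_overAff f hW
  -- the square
  have hy' : Y.fromSpecStalk y = Spec.map (CommRingCat.ofHom (algebraMap A B)) ≫ hW.fromSpec :=
    (hW.fromSpecStalk_eq_fromSpecStalk hy).symm
  let h := X₁ ↘ Spec (CommRingCat.of B)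
  have hw : g ≫ f = (h ≫ Spec.map (CommRingCat.ofHom (algebraMap A B))) ≫ hW.fromSpec := by
    rw [Category.assoc, ← hy']; exact hsq.w
  let gW : X₁ ⟶ XW := (isPullback_overAff f hW).lift g _ hw
  have hg : gW ≫ (f ⁻¹ᵁ W).ι = g := (isPullback_overAff f hW).lift_fst _ _ _
  have H : IsPullback gW h (overAff f hW) (Spec.map (CommRingCat.ofHom (algebraMap A B))) := by
    refine IsPullback.of_right ?_ ((isPullback_overAff f hW).lift_snd _ _ _) (isPullback_overAff f hW)
    rw [hg, ← hy']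
    exact hsq
  let MW : XW.Modules := M.restrict (f ⁻¹ᵁ W).ι
  let PW : X₁.Modules := (Scheme.Modules.pullback gW).obj MW
  let P : X₁.Modules := (Scheme.Modules.pullback g).obj M
  have : Coh.IsQCoh MW := inferInstance
  let := Module.compHom (Coh.HH XW MW p) (Coh.toGlobal (overAff f hW))
  let := Module.compHom (Coh.HH X₁ PW p) (Coh.toGlobal h)
  obtain ⟨e₁⟩ := RpushLib.nonempty_affBase_bc (A := A) (B := B) H MW p
  let ePW : PW ≅ P :=
    (Scheme.Modules.pullback gW).mapIso ((Scheme.Modules.restrictFunctorIsoPullback (f ⁻¹ᵁ W).ι).app M) ≪≫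
      ((Scheme.Modules.pullbackComp gW (f ⁻¹ᵁ W).ι).app M) ≪≫ (Scheme.Modules.pullbackCongr hg).app M
  obtain ⟨e₂⟩ := nonempty_hh_congr h ePW p
  -- sections
  let eS : Γ(N, W) ≃ₗ[A] Coh.HH XW MW p :=
    { RpushLib.rpushSectionsEquiv f M p hW with
      map_smul' := fun r x => (RpushLib.rpushSectionsEquiv_smul f M p hW r x).trans
        (congrArg (fun z : Coh.Γtop XW => z • RpushLib.rpushSectionsEquiv f M p hW x)
          (toGlobal_overAff f hW r).symm) }
  let : Module A (N.presheaf.stalk y) := Module.compHom _ (Y.presheaf.germ W y hy).hom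
  have : IsScalarTower A B (N.presheaf.stalk y) := IsScalarTower.of_algebraMap_smul fun _ _ => rfl
  have hloc : IsLocalizedModule (hW.primeIdealOf ⟨y, hy⟩).asIdeal.primeCompl (FlatLib.germLin N hy) :=
    FlatLib.isLocalizedModule_germLin N hW hy
  let e₀ : B ⊗[A] Γ(N, W) ≃ₗ[B] N.presheaf.stalk y :=
    (IsLocalizedModule.isBaseChange (hW.primeIdealOf ⟨y, hy⟩).asIdeal.primeCompl B (FlatLib.germLin N hy)).equiv
  let e₀' := (TensorProduct.AlgebraTensorModule.congr (LinearEquiv.refl B B) eS)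
  exact ⟨((e₀.symm.trans e₀').trans e₁).trans e₂⟩

end FibVanLib
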