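import Groth.Agent.FibVanLib.General

/-!
# Vanishing above the fibre dimension over an affine base
-/

set_option autoImplicit false

universe u

open CategoryTheory CategoryTheory.Limits AlgebraicGeometry Opposite TopologicalSpace

namespace FibVanLib

/-- Cohomology vanishes above the dimension of the fibres over an affine base. -/
theorem subsingleton_HH_affine {S X : Scheme.{u}} (f : X ⟶ S) [IsProper f] [IsAffine S] (d : ℕ)
    (hd : ∀ s : S, topologicalKrullDim ↥(f.fiber s) ≤ d) (N : X.Modules) [Coh.IsQCoh N] (p : ℕ) (hp : d < p) :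
    Subsingleton (Coh.HH X N p) := by
  obtain ⟨e⟩ := Groth.Agent.S0032.result f N p
  have : Subsingleton ↑(((Coh.RpushAb f p).obj (Coh.toAb N)).obj.obj (op ⊤)) := ⟨fun a b => by
    refine TopCat.Presheaf.section_ext ((Coh.RpushAb f p).obj (Coh.toAb N)) ⊤ a b fun x _ => ?_
    have := AddCommGrpCat.subsingleton_of_isZero (isZero_stalk_rpushAb_qcoh f x d (hd x) N p hp)
    exact Subsingleton.elim _ _⟩
  exact e.toEquiv.subsingleton

end FibVanLib
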