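import Groth.Agent.RpushLib.HBase
import Mathlib.AlgebraicGeometry.Morphisms.ClosedImmersion
import Mathlib.Algebra.Category.Ring.Constructions

/-!
# Functions on closed subschemes of fibre products of affine schemes
-/

set_option autoImplicit false

universe u

open CategoryTheory CategoryTheory.Limits AlgebraicGeometry Opposite TopologicalSpace

namespace FibVanLib

/-- A pushout of rings is generated by products. -/
theorem exists_sum_of_isPushout {A B C D : CommRingCat.{u}} {α : A ⟶ B} {β : A ⟶ C} {inl : B ⟶ D}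
    {inr : C ⟶ D} (h : IsPushout α β inl inr) (r : D) :
    ∃ (n : ℕ) (c : Fin n → C) (b : Fin n → B), r = ∑ k, inr (c k) * inl (b k) := by
  letI : Algebra C D := inr.hom.toAlgebra
  let R' : Subalgebra C D := Algebra.adjoin C (Set.range inl)
  let i₁ : B ⟶ CommRingCat.of R' := CommRingCat.ofHom
    (inl.hom.codRestrict R' fun x => Algebra.subset_adjoin ⟨x, rfl⟩)
  let i₂ : C ⟶ CommRingCat.of R' := CommRingCat.ofHom (algebraMap C R')
  have w : α ≫ i₁ = β ≫ i₂ := by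
    ext x
    exact congr($(h.w) x)
  let j : CommRingCat.of R' ⟶ D := CommRingCat.ofHom R'.val.toRingHom
  have hj : h.desc i₁ i₂ w ≫ j = 𝟙 D := by
    refine h.hom_ext ?_ ?_
    · rw [IsPushout.inl_desc_assoc, Category.comp_id]; rfl
    · rw [IsPushout.inr_desc_assoc, Category.comp_id]; rfl
  have hr : r ∈ Subalgebra.toSubmodule R' := by
    rw [← show j (h.desc i₁ i₂ w r) = r from congr($(hj) r)]
    exact (show R' from h.desc i₁ i₂ w r).2
  rw [Algebra.adjoin_eq_span, show (Submonoid.closure (Set.range inl) : Set D) = Set.range inl from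
    congrArg SetLike.coe ((MonoidHom.coe_mrange (inl.hom : B →* D)) ▸
      Submonoid.closure_eq (MonoidHom.mrange (inl.hom : B →* D)))] at hr
  obtain ⟨n, c, g, hg⟩ := Submodule.mem_span_set'.1 hr
  choose b hb using fun k => (g k).2
  exact ⟨n, c, b, hg.symm.trans (Finset.sum_congr rfl fun k _ => by rw [Algebra.smul_def, hb]; rfl)⟩

/-- Functions on a closed subscheme of a fibre product, on affine boxes. -/
theorem exists_sum_appLE {X Y' Y T S : Scheme.{u}} {a : Y' ⟶ Y} {b : Y' ⟶ S} {φ : Y ⟶ T} {g : S ⟶ T}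
    (H : IsPullback a b φ g) (k : X ⟶ Y') [IsClosedImmersion k] {u : X ⟶ Y} (hu : k ≫ a = u)
    {f : X ⟶ S} (hf : k ≫ b = f) {UT : T.Opens} (hUT : IsAffineOpen UT) {US : S.Opens}
    (hUS : IsAffineOpen US) (hg : US ≤ g ⁻¹ᵁ UT) {W : Y.Opens} (hW : IsAffineOpen W) (hφ : W ≤ φ ⁻¹ᵁ UT)
    (V : X.Opens) (hV : V = u ⁻¹ᵁ W ⊓ f ⁻¹ᵁ US) (r : Γ(X, V)) :
    ∃ (n : ℕ) (c : Fin n → Γ(S, US)) (s : Fin n → Γ(Y, W)),
      r = ∑ l, f.appLE US V (hV.le.trans inf_le_right) (c l) * u.appLE W V (hV.le.trans inf_le_left) (s l) := by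
  subst hu hf hV
  have hV' : IsAffineOpen (a ⁻¹ᵁ W ⊓ b ⁻¹ᵁ US) := RpushLib.isAffineOpen_fibre H hUT hUS hg hW hφ
  have : IsAffine (a ⁻¹ᵁ W ⊓ b ⁻¹ᵁ US : Y'.Opens).toScheme := hV'
  obtain ⟨r', hr'⟩ := k.app_surjective _ hV' r
  obtain ⟨n, c, s, hs⟩ := exists_sum_of_isPushout (RpushLib.isPushout_sections H hUT hUS hg hW hφ) r'
  refine ⟨n, c, s, ?_⟩
  rw [← hr', hs, map_sum]
  refine Finset.sum_congr rfl fun l _ => ?_
  rw [map_mul]
  congr 1
  · show (b.appLE US _ _ ≫ k.app _).hom (c l) = _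
    rw [Scheme.Hom.app_eq_appLE k, Scheme.Hom.appLE_comp_appLE]
    rfl
  · show (a.appLE W _ _ ≫ k.app _).hom (s l) = _
    rw [Scheme.Hom.app_eq_appLE k, Scheme.Hom.appLE_comp_appLE]
    rfl

end FibVanLib
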