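import Groth.Agent.FibVanLib.QCoh
import Groth.Agent.QCohLib.AffineFinite

/-!
# Finiteness in the top degree along an affine morphism to a Noetherian model
-/

set_option autoImplicit false
set_option maxHeartbeats 800000

universe u

open CategoryTheory CategoryTheory.Limits AlgebraicGeometry TopologicalSpace Opposite
open GradedCechLib (Sys Cochain rng dd rng_nonempty)
open FormalLib

namespace FibVanLib

variable {A₀ A : Type u} [CommRing A₀] [CommRing A] [Algebra A₀ A]
  {Y : Scheme.{u}} [Y.Over (Spec (CommRingCat.of A₀))]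
  {X : Scheme.{u}} [X.Over (Spec (CommRingCat.of A))]
  (u : X ⟶ Y)
  (hu : u ≫ (Y ↘ Spec (CommRingCat.of A₀)) =
    (X ↘ Spec (CommRingCat.of A)) ≫ Spec.map (CommRingCat.ofHom (algebraMap A₀ A)))

include hu in
theorem app_rhoA (W : Y.Opens) (W' : X.Opens) (h : W' ≤ u ⁻¹ᵁ W) (b : A₀) :
    u.appLE W W' h (rhoA A₀ W b) = rhoA A W' (algebraMap A₀ A b) := by
  have e0 : Coh.toGlobal (X ↘ Spec (CommRingCat.of A)) (algebraMap A₀ A b) =
      u.appTop (Coh.toGlobal (Y ↘ Spec (CommRingCat.of A₀)) b) := by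
    have e : (Scheme.ΓSpecIso (CommRingCat.of A₀)).inv ≫ (Y ↘ Spec (CommRingCat.of A₀)).appTop ≫ u.appTop =
        CommRingCat.ofHom (algebraMap A₀ A) ≫ (Scheme.ΓSpecIso (CommRingCat.of A)).inv ≫
          (X ↘ Spec (CommRingCat.of A)).appTop := by
      rw [← Scheme.Hom.comp_appTop, hu, Scheme.Hom.comp_appTop, ← Category.assoc, ← Category.assoc,
        Scheme.ΓSpecIso_inv_naturality]
    exact congr($(e).hom b).symm
  show (Y.presheaf.map (homOfLE le_top).op ≫ u.appLE W W' h).hom (Coh.toGlobal _ b) =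
    X.presheaf.map (homOfLE le_top).op (Coh.toGlobal _ (algebraMap A₀ A b))
  rw [e0]
  have e2 : Y.presheaf.map (homOfLE (le_top : W ≤ ⊤)).op ≫ u.appLE W W' h =
      u.appTop ≫ X.presheaf.map (homOfLE (le_top : W' ≤ u ⁻¹ᵁ ⊤)).op := by
    rw [Scheme.Hom.map_appLE, Scheme.Hom.appTop, Scheme.Hom.app_eq_appLE]
    exact (u.appLE_map _ _).symm
  exact congr($(e2) (Coh.toGlobal (Y ↘ Spec (CommRingCat.of A₀)) b))

variable {m : ℕ} (U : Fin m → Y.Opens) (F : X.Modules)

/-- The preimage cover. -/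
abbrev preV : Fin m → X.Opens := fun i => u ⁻¹ᵁ U i

theorem inf_preV (s : Finset (Fin m)) : s.inf (preV u U) = u ⁻¹ᵁ s.inf U := by
  induction s using Finset.cons_induction with
  | empty => simp
  | cons a s ha ih => rw [Finset.inf_cons, Finset.inf_cons, ih]; rfl

/-- Sections of the direct image on a cap as sections on the preimage cap. -/
noncomputable def capEquiv (s : Finset (Fin m)) :
    Sec A₀ ((Coh.push u).obj F) (s.inf U) ≃+ Sec A F (s.inf (preV u U)) :=
  ((toSec A₀ ((Coh.push u).obj F) _).symm.trans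
    (AddEquiv.ofBijective (F.presheaf.map (homOfLE (inf_preV u U s).le).op).hom
      (by
        have : IsIso (homOfLE (inf_preV u U s).le) :=
          ⟨homOfLE (inf_preV u U s).ge, Subsingleton.elim _ _, Subsingleton.elim _ _⟩
        exact ConcreteCategory.bijective_of_isIso
          (F.presheaf.map (homOfLE (inf_preV u U s).le).op)))).trans (toSec A F _)

theorem capEquiv_apply (s : Finset (Fin m)) (x : Γ((Coh.push u).obj F, s.inf U)) :
    capEquiv (A₀ := A₀) (A := A) u U F s (toSec A₀ _ _ x) =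
      toSec A F _ (F.presheaf.map (homOfLE (inf_preV u U s).le).op x) := rfl

include hu in
theorem capEquiv_smul (s : Finset (Fin m)) (b : A₀) (x : Sec A₀ ((Coh.push u).obj F) (s.inf U)) :
    capEquiv (A₀ := A₀) (A := A) u U F s (b • x) = algebraMap A₀ A b • capEquiv (A₀ := A₀) (A := A) u U F s x := by
  refine (Scheme.Modules.map_smul F _ (u.app _ (rhoA A₀ (s.inf U) b)) x).trans ?_
  refine congrArg (fun r : Γ(X, s.inf (preV u U)) => r • F.presheaf.map (homOfLE (inf_preV u U s).le).op x) ?_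
  exact app_rhoA u hu (s.inf U) (s.inf (preV u U)) (inf_preV u U s).le b

theorem capEquiv_secMap_push (s : Finset (Fin m)) (a : A) (x : Sec A₀ ((Coh.push u).obj F) (s.inf U)) :
    capEquiv (A₀ := A₀) (A := A) u U F s (secMap (A := A₀) ((Coh.push u).map (Formal.smulMod A F a)) (s.inf U) x) =
      a • capEquiv (A₀ := A₀) (A := A) u U F s x :=
  (QCohLib.app_map (Formal.smulMod A F a) (homOfLE (inf_preV u U s).le) x).symm

theorem capEquiv_res {s t : Finset (Fin m)} (h : s ⊆ t) (x : Sec A₀ ((Coh.push u).obj F) (s.inf U)) :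
    capEquiv (A₀ := A₀) (A := A) u U F t (GradedCechLib.res (sysOf A₀ U ((Coh.push u).obj F)) h x) =
      GradedCechLib.res (sysOf A (preV u U) F) h (capEquiv (A₀ := A₀) (A := A) u U F s x) :=
  (QCohLib.map_map' F (homOfLE (inf_preV u U t).le)
      ((Opens.map u.base).map (homOfLE (Finset.inf_mono h : t.inf U ≤ s.inf U))) x).trans
    (QCohLib.map_map' F (homOfLE (Finset.inf_mono h : t.inf (preV u U) ≤ s.inf (preV u U)))
      (homOfLE (inf_preV u U s).le) x).symm

/-- Cochains of the direct image as cochains on the preimage cover. -/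
noncomputable def cochEquiv (p : ℕ) :
    Cochain (sysOf A₀ U ((Coh.push u).obj F)) p ≃+ Cochain (sysOf A (preV u U) F) p :=
  AddEquiv.piCongrRight fun J => capEquiv (A₀ := A₀) (A := A) u U F (rng J)

theorem cochEquiv_dd (p : ℕ) (c : Cochain (sysOf A₀ U ((Coh.push u).obj F)) p) :
    cochEquiv (A₀ := A₀) (A := A) u U F (p + 1) (dd _ p c) = dd _ p (cochEquiv (A₀ := A₀) (A := A) u U F p c) := by
  funext J
  show capEquiv (A₀ := A₀) (A := A) u U F (rng J) (dd _ p c J) = _
  rw [GradedCechLib.dd_apply, GradedCechLib.dd_apply]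
  refine (map_sum (capEquiv (A₀ := A₀) (A := A) u U F (rng J)) _ _).trans (Finset.sum_congr rfl fun k _ => ?_)
  refine (map_zsmul (capEquiv (A₀ := A₀) (A := A) u U F (rng J)) _ _).trans ?_
  exact congrArg _ (capEquiv_res u U F _ (c (J ∘ k.succAbove)))

theorem secMap_sum {κ : Type*} (t : Finset κ) {M N : Y.Modules} (g : κ → (M ⟶ N)) (W : Y.Opens)
    (x : Sec A₀ M W) : secMap (∑ j ∈ t, g j) W x = ∑ j ∈ t, secMap (g j) W x := by
  classical
  induction t using Finset.induction_on with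
  | empty => rfl
  | @insert j t hj ih =>
    rw [Finset.sum_insert hj, Finset.sum_insert hj, ← ih]
    rfl

theorem cochainMap_sum {κ : Type*} (t : Finset κ) {M N : Y.Modules} (g : κ → (M ⟶ N)) (p : ℕ)
    (c : Cochain (sysOf A₀ U M) p) :
    cochainMap (sysMap U (∑ j ∈ t, g j)) p c = ∑ j ∈ t, cochainMap (sysMap (A := A₀) U (g j)) p c := by
  funext J
  rw [Finset.sum_apply]
  exact secMap_sum t g _ _

theorem cochainMap_comp {M N P : Y.Modules} (g : M ⟶ N) (h : N ⟶ P) (p : ℕ) (c : Cochain (sysOf A₀ U M) p) :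
    cochainMap (sysMap U (g ≫ h)) p c = cochainMap (sysMap (A := A₀) U h) p (cochainMap (sysMap U g) p c) := rfl

theorem cochEquiv_smulMod (p : ℕ) (a : A) (c : Cochain (sysOf A₀ U ((Coh.push u).obj F)) p) :
    cochEquiv (A₀ := A₀) (A := A) u U F p (cochainMap (sysMap (A := A₀) U ((Coh.push u).map (Formal.smulMod A F a))) p c) =
      a • cochEquiv (A₀ := A₀) (A := A) u U F p c :=
  funext fun J => capEquiv_secMap_push u U F (rng J) a (c J)

include hu in
theorem cochEquiv_smul (p : ℕ) (b : A₀) (c : Cochain (sysOf A₀ U ((Coh.push u).obj F)) p) :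
    cochEquiv (A₀ := A₀) (A := A) u U F p (b • c) = algebraMap A₀ A b • cochEquiv (A₀ := A₀) (A := A) u U F p c :=
  funext fun J => capEquiv_smul u hu U F (rng J) b (c J)

end FibVanLib

namespace FibVanLib

/-- The set-up of formal functions, with the covering property. -/
theorem exists_setup_cover (A : Type u) [CommRing A] (X : Scheme.{u}) [X.Over (Spec (CommRingCat.of A))]
    [IsProper (X ↘ Spec (CommRingCat.of A))] : ∃ C : Setup A X, ⨆ i, C.V i = ⊤ := by
  have : CompactSpace X := QuasiCompact.compactSpace_of_compactSpace (X ↘ Spec (CommRingCat.of A))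
  have : X.IsSeparated := ⟨by
    rw [← terminal.comp_from (X ↘ Spec (CommRingCat.of A))]
    infer_instance⟩
  let 𝒰 := X.affineCover.finiteSubcover
  obtain ⟨m, ⟨e⟩⟩ := Finite.exists_equiv_fin 𝒰.I₀
  let V : Fin m → X.Opens := fun i => (𝒰.f (e.symm i)).opensRange
  have hV : ∀ i, IsAffineOpen (V i) := fun i =>
    have : IsAffine (𝒰.X (e.symm i)) := inferInstanceAs (IsAffine (X.affineCover.X _))
    isAffineOpen_opensRange _
  have hU : ⨆ i, V i = ⊤ := top_le_iff.1 (𝒰.iSup_opensRange.ge.trans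
    (iSup_le fun j => le_iSup_of_le (e j) (le_of_eq (congrArg (fun t => (𝒰.f t).opensRange) (e.symm_apply_apply j).symm))))
  obtain ⟨κ, h1, h2, h3, h4⟩ := exists_cls A V hV hU
  refine ⟨⟨m, V, hV, fun s hs => ?_, κ, h1, h2, h3, h4⟩, hU⟩
  induction hs using Finset.Nonempty.cons_induction with
  | singleton a => simpa using hV a
  | cons a s ha hs ih =>
    rw [Finset.inf_cons]
    exact (hV a).inf ih

variable {A₀ A : Type u} [CommRing A₀] [IsNoetherianRing A₀] [CommRing A] [Algebra A₀ A]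
  {Y : Scheme.{u}} [Y.Over (Spec (CommRingCat.of A₀))] [IsProper (Y ↘ Spec (CommRingCat.of A₀))]
  {X : Scheme.{u}} [X.Over (Spec (CommRingCat.of A))]

/-- **Top degree cohomology is finite.** -/
theorem finite_HH_top (u : X ⟶ Y) [IsAffineHom u]
    (hu : u ≫ (Y ↘ Spec (CommRingCat.of A₀)) =
      (X ↘ Spec (CommRingCat.of A)) ≫ Spec.map (CommRingCat.ofHom (algebraMap A₀ A)))
    (d : ℕ) (hvan : ∀ (N : Y.Modules), Coh.IsQCoh N → Subsingleton (Coh.HH Y N (d + 1)))
    (hgen : ∀ W : Y.Opens, IsAffineOpen W → ∀ r : Γ(X, u ⁻¹ᵁ W),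
      ∃ (n : ℕ) (a : Fin n → A) (s : Fin n → Γ(Y, W)), r = ∑ k, rhoA A (u ⁻¹ᵁ W) (a k) * u.app W (s k))
    (F : X.Modules) (hF : Coh.IsCoh F) : Module.Finite A (Coh.HH X F d) := by
  classical
  haveI hFq : Coh.IsQCoh F := hF.1
  haveI : IsNoetherian Y := by
    haveI : IsLocallyNoetherian Y := LocallyOfFiniteType.isLocallyNoetherian (Y ↘ Spec (CommRingCat.of A₀))
    haveI : CompactSpace Y := QuasiCompact.compactSpace_of_compactSpace (Y ↘ Spec (CommRingCat.of A₀))
    exact {}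
  obtain ⟨C, hcov⟩ := exists_setup_cover A₀ Y
  haveI : Y.IsSeparated := ⟨by
    rw [← terminal.comp_from (Y ↘ Spec (CommRingCat.of A₀))]
    infer_instance⟩
  haveI : X.IsSeparated := ⟨by rw [← terminal.comp_from u]; infer_instance⟩
  let V := preV u C.V
  have hcovV : ⨆ i, V i = ⊤ := eq_top_iff.2 fun x _ => by
    obtain ⟨i, hi⟩ := Opens.mem_iSup.1 (hcov.ge (Opens.mem_top (u x)))
    exact Opens.mem_iSup.2 ⟨i, hi⟩
  obtain ⟨κ, hκs, -, hκk, -⟩ := exists_cls A V (fun i => (C.affine i).preimage u) hcovV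
  let N : Y.Modules := (Coh.push u).obj F
  haveI : Coh.IsQCoh N := QCohLib.isQCoh_pushforward u F
  -- generators on the caps
  let caps := {s : Finset (Fin C.m) // s.Nonempty}
  have hcapA : ∀ s : caps, IsAffineOpen (s.1.inf C.V) := fun s => C.caps _ s.2
  have hfin : ∀ s : caps, ∃ (n : ℕ) (g : Fin n → Γ(N, s.1.inf C.V)),
      Submodule.span Γ(X, u ⁻¹ᵁ s.1.inf C.V) (Set.range fun k => (show Γ(F, u ⁻¹ᵁ s.1.inf C.V) from g k)) = ⊤ := by
    intro s
    haveI := QCohLib.finite_of_isFT hF.2 ((hcapA s).preimage u)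
    obtain ⟨n, g, hg⟩ := Module.Finite.exists_fin (R := Γ(X, u ⁻¹ᵁ s.1.inf C.V)) (M := Γ(F, u ⁻¹ᵁ s.1.inf C.V))
    exact ⟨n, g, hg⟩
  choose n g hg using hfin
  obtain ⟨G, φ, -, hG, hφ⟩ := exists_coh_through N (α := Σ s : caps, Fin (n s)) (fun q => q.1.1.inf C.V)
    (fun q => hcapA q.1) (fun q => g q.1 q.2)
  -- everything comes from `G`
  have hspan : ∀ s : caps, ∀ x : Sec A F (s.1.inf V),
      x ∈ Submodule.span A (Set.range fun y : Sec A₀ G (s.1.inf C.V) =>
        capEquiv (A₀ := A₀) (A := A) u C.V F s.1 (secMap φ _ y)) := by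
    intro s x
    obtain ⟨x₀, rfl⟩ := (capEquiv (A₀ := A₀) (A := A) u C.V F s.1).surjective x
    obtain ⟨x', rfl⟩ := (toSec A₀ N (s.1.inf C.V)).surjective x₀
    let W : Y.Opens := s.1.inf C.V
    let xF : Γ(F, u ⁻¹ᵁ W) := x'
    let gF : Fin (n s) → Γ(F, u ⁻¹ᵁ W) := g s
    have hx : xF ∈ Submodule.span Γ(X, u ⁻¹ᵁ W) (Set.range gF) := by
      rw [show Submodule.span Γ(X, u ⁻¹ᵁ W) (Set.range gF) = ⊤ from hg s]; trivial
    obtain ⟨r, hr⟩ := (Submodule.mem_span_range_iff_exists_fun _).1 hx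
    choose nn a b hab using fun k => hgen W (hcapA s) (r k)
    choose t ht using fun k => hφ ⟨s, k⟩
    let w : ∀ k, Fin (nn k) → Γ(F, u ⁻¹ᵁ W) := fun k l => φ.app W (b k l • t k)
    have e : xF = ∑ k, ∑ l, rhoA A (u ⁻¹ᵁ W) (a k l) • w k l := by
      refine hr.symm.trans (Finset.sum_congr rfl fun k _ => ?_)
      rw [hab k, Finset.sum_smul]
      refine Finset.sum_congr rfl fun l _ => ?_
      rw [mul_smul]
      refine congrArg (fun z : Γ(F, u ⁻¹ᵁ W) => rhoA A (u ⁻¹ᵁ W) (a k l) • z) ?_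
      exact ((QCohLib.app_smul φ W (b k l) (t k)).trans
        (congrArg (fun z : Γ(N, W) => b k l • z) (ht k))).symm
    have e3 : x' = (show Γ(N, W) from ∑ k, ∑ l, rhoA A (u ⁻¹ᵁ W) (a k l) • w k l) := e
    rw [e3]
    show capEquiv (A₀ := A₀) (A := A) u C.V F s.1 (toSec A₀ N W (∑ k, ∑ l,
      (show Γ(N, W) from rhoA A (u ⁻¹ᵁ W) (a k l) • w k l))) ∈
      Submodule.span A (Set.range fun y : Sec A₀ G (s.1.inf C.V) =>
        capEquiv (A₀ := A₀) (A := A) u C.V F s.1 (secMap φ _ y))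
    rw [map_sum, map_sum]
    refine Submodule.sum_mem _ fun k _ => ?_
    rw [map_sum, map_sum]
    refine Submodule.sum_mem _ fun l _ => ?_
    have e2 : capEquiv (A₀ := A₀) (A := A) u C.V F s.1 (toSec A₀ N W (show Γ(N, W) from rhoA A (u ⁻¹ᵁ W) (a k l) • w k l)) =
      a k l • capEquiv (A₀ := A₀) (A := A) u C.V F s.1 (secMap φ _ (toSec A₀ G _ (b k l • t k))) :=
      capEquiv_secMap_push u C.V F s.1 (a k l) (secMap φ _ (toSec A₀ G _ (b k l • t k)))
    rw [e2]
    exact Submodule.smul_mem _ _ (Submodule.subset_span ⟨_, rfl⟩)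
  let T : ∀ q, Cochain (sysOf A₀ C.V G) q →+ Cochain (sysOf A V F) q := fun q =>
    (cochEquiv (A₀ := A₀) (A := A) u C.V F q).toAddMonoidHom.comp (cochainMap (sysMap C.V φ) q).toAddMonoidHom
  have hTdd : ∀ q c, T (q + 1) (dd _ q c) = dd _ q (T q c) := fun q c => by
    show cochEquiv (A₀ := A₀) (A := A) u C.V F (q + 1) (cochainMap (sysMap C.V φ) (q + 1) (dd _ q c)) = _
    rw [← dd_cochainMap, cochEquiv_dd]
    rfl
  have hcspan : ∀ z : Cochain (sysOf A V F) d, z ∈ Submodule.span A (Set.range (T d)) := by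
    intro z
    rw [← Finset.univ_sum_single z]
    refine Submodule.sum_mem _ fun J _ => ?_
    have h1 := hspan ⟨rng J, rng_nonempty J⟩ (z J)
    have h2 := Submodule.mem_map_of_mem
      (f := LinearMap.single A (fun J : Fin (d + 1) → Fin C.m => ((sysOf A V F).obj (rng J) : Type u)) J) h1
    refine Submodule.span_le.2 ?_ (Submodule.map_span (LinearMap.single A
      (fun J : Fin (d + 1) → Fin C.m => ((sysOf A V F).obj (rng J) : Type u)) J) _ ▸ h2)
    rintro _ ⟨_, ⟨y, rfl⟩, rfl⟩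
    refine Submodule.subset_span ⟨Pi.single J y, funext fun J' => ?_⟩
    show capEquiv (A₀ := A₀) (A := A) u C.V F (rng J') (secMap (A := A₀) φ _ ((Pi.single J y : Cochain (sysOf A₀ C.V G) d) J')) = _
    by_cases hJ : J' = J
    · subst hJ
      simp [LinearMap.single_apply]
    · simp [LinearMap.single_apply, Pi.single_eq_of_ne hJ]
      exact (congrArg _ (map_zero _)).trans (map_zero _)
  -- finitely many classes
  let T' : Zc (sysOf A₀ C.V G) d → Zc (sysOf A V F) d := fun c =>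
    ⟨T d c.1, LinearMap.mem_ker.2 (by rw [← hTdd, LinearMap.mem_ker.1 c.2, map_zero])⟩
  haveI : Module.Finite A₀ (Coh.HH Y G d) := finite_HH (A := A₀) G hG d
  obtain ⟨r, x, hx⟩ := Module.Finite.exists_fin (R := A₀) (M := Coh.HH Y G d)
  choose cc hcc using fun l => C.surj G hG.1 d (x l)
  let S₀ : Submodule A (Coh.HH X F d) := Submodule.span A (Set.range fun l => κ F hF.1 d (T' (cc l)))
  have hcoc : ∀ c : Zc (sysOf A₀ C.V G) d, κ F hF.1 d (T' c) ∈ S₀ := by
    intro c
    obtain ⟨b, hb⟩ := (Submodule.mem_span_range_iff_exists_fun A₀).1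
      (show C.κ G hG.1 d c ∈ Submodule.span A₀ (Set.range x) by rw [hx]; trivial)
    let e : Zc (sysOf A₀ C.V G) d := c - ∑ l, b l • cc l
    have he : C.κ G hG.1 d e = 0 := by
      rw [map_sub, map_sum, sub_eq_zero, ← hb]
      exact Finset.sum_congr rfl fun l _ => by rw [map_smul, hcc]
    have hTe : κ F hF.1 d (T' e) = 0 := by
      rcases d with _ | q
      · have : e = 0 := C.inj G hG.1 (he.trans (map_zero _).symm)
        rw [this, show T' 0 = 0 from Subtype.ext (map_zero (T 0))]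
        exact map_zero _
      · obtain ⟨w, hw⟩ := (C.kills G hG.1 q e).1 he
        refine (hκk F hF.1 q _).2 ⟨T q w, ?_⟩
        rw [← hTdd, hw]
    have hT' : T' c = T' e + ∑ l, algebraMap A₀ A (b l) • T' (cc l) := by
      refine Subtype.ext ?_
      rw [Submodule.coe_add, Submodule.coe_sum]
      show T d c.1 = T d e.1 + ∑ l, algebraMap A₀ A (b l) • T d (cc l).1
      have hTs : ∀ l, algebraMap A₀ A (b l) • T d (cc l).1 = T d (b l • (cc l).1) := fun l => by
        show _ = cochEquiv (A₀ := A₀) (A := A) u C.V F d (cochainMap (sysMap C.V φ) d (b l • (cc l).1))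
        rw [map_smul, cochEquiv_smul u hu]
        rfl
      simp only [hTs]
      rw [← map_sum, ← map_add]
      congr 1
      rw [show e.1 = c.1 - ∑ l, b l • (cc l).1 by
        show ((c - ∑ l, b l • cc l : Zc (sysOf A₀ C.V G) d) : Cochain (sysOf A₀ C.V G) d) = _
        rw [Submodule.coe_sub, Submodule.coe_sum]; rfl]
      exact (sub_add_cancel _ _).symm
    rw [hT', map_add, hTe, zero_add, map_sum]
    exact Submodule.sum_mem _ fun l _ => by
      rw [map_smul]; exact Submodule.smul_mem _ _ (Submodule.subset_span ⟨l, rfl⟩)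
  refine ⟨⟨Finset.univ.image fun l => κ F hF.1 d (T' (cc l)), ?_⟩⟩
  rw [Finset.coe_image, Finset.coe_univ, Set.image_univ]
  refine eq_top_iff.2 fun y _ => ?_
  obtain ⟨z, rfl⟩ := hκs F hF.1 d y
  obtain ⟨k, a, c, hc⟩ := (Submodule.mem_span_set' ).1 (hcspan z.1)
  choose c₀ hc₀ using fun i => (c i).2
  -- lift to cocycles
  let P : Y.Modules := ⨁ fun _ : ULift.{u} (Fin k) => G
  haveI : Coh.IsQCoh (∐ fun _ : ULift.{u} (Fin k) => G) := QCohLib.isQCoh_sigma _ fun _ => hG.1
  haveI : Coh.IsQCoh P := QCohLib.isQCoh_of_iso (biproduct.isoCoproduct _).symm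
  let ψ : ULift.{u} (Fin k) → (G ⟶ N) := fun i => φ ≫ (Coh.push u).map (Formal.smulMod A F (a i.down))
  let Φ : P ⟶ N := ∑ i, biproduct.π _ i ≫ ψ i
  let ct : Cochain (sysOf A₀ C.V P) d :=
    ∑ i, cochainMap (sysMap C.V (biproduct.ι (fun _ : ULift.{u} (Fin k) => G) i)) d (c₀ i.down)
  have hπ : ∀ i, cochainMap (sysMap C.V (biproduct.π (fun _ : ULift.{u} (Fin k) => G) i)) d ct = c₀ i.down := by
    intro i
    rw [map_sum, Finset.sum_eq_single i]
    · rw [← cochainMap_comp, biproduct.ι_π_self]; rfl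
    · intro j _ hj
      rw [← cochainMap_comp, biproduct.ι_π_ne _ hj]; rfl
    · exact fun h => absurd (Finset.mem_univ i) h
  have hΦ : ∀ w : Cochain (sysOf A₀ C.V P) d, cochEquiv (A₀ := A₀) (A := A) u C.V F d (cochainMap (sysMap C.V Φ) d w) =
      ∑ i, a i.down • T d (cochainMap (sysMap C.V (biproduct.π _ i)) d w) := fun w => by
    rw [cochainMap_sum, map_sum]
    refine Finset.sum_congr rfl fun i _ => ?_
    exact cochEquiv_smulMod u C.V F d (a i.down) _
  have hzct : cochEquiv (A₀ := A₀) (A := A) u C.V F d (cochainMap (sysMap C.V Φ) d ct) = z.1 := by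
    rw [hΦ, ← hc]
    simp only [hπ, hc₀]
    exact (Equiv.ulift.sum_comp (fun i => a i • ((c i : _) : Cochain (sysOf A V F) d)))
  have hK : (ShortComplex.mk _ _ (kernel.condition Φ)).Exact := ShortComplex.exact_of_f_is_kernel _ (kernelIsKernel Φ)
  haveI : Coh.IsQCoh (kernel Φ) := QCohLib.isQCoh_kernel Φ
  have h0 : cochainMap (sysMap C.V Φ) (d + 1) (dd _ d ct) = 0 := by
    apply (cochEquiv (A₀ := A₀) (A := A) u C.V F (d + 1)).injective
    rw [← dd_cochainMap, cochEquiv_dd, hzct, map_zero, LinearMap.mem_ker.1 z.2]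
  choose e₁ he₁ using fun J => QCohLib.exists_of_app_eq_zero hK (inferInstanceAs (Mono (kernel.ι Φ)))
    _ (congrFun h0 J)
  have hinj : ∀ q, Function.Injective (cochainMap (sysMap (A := A₀) C.V (kernel.ι Φ)) q) := fun q v w h =>
    funext fun J => QCohLib.app_injective_of_mono (kernel.ι Φ) _ (congrFun h J)
  have he₁' : cochainMap (sysMap C.V (kernel.ι Φ)) (d + 1) e₁ = dd (sysOf A₀ C.V P) d ct := funext he₁
  have he₁z : dd (sysOf A₀ C.V (kernel Φ)) (d + 1) e₁ = 0 := hinj (d + 2) (by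
    rw [← dd_cochainMap, he₁', dd_dd, map_zero])
  obtain ⟨w, hw⟩ := (C.kills (kernel Φ) inferInstance d ⟨e₁, LinearMap.mem_ker.2 he₁z⟩).1
    ((hvan (kernel Φ) inferInstance).elim _ _)
  let ct' : Zc (sysOf A₀ C.V P) d := ⟨ct - cochainMap (sysMap C.V (kernel.ι Φ)) d w, LinearMap.mem_ker.2 (by
    rw [map_sub, dd_cochainMap, hw, he₁', sub_self])⟩
  have hz' : z.1 = ∑ i, a i.down • T d (cochainMap (sysMap C.V (biproduct.π _ i)) d ct'.1) := by
    rw [← hΦ, map_sub, ← cochainMap_comp, kernel.condition, map_sub, hzct]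
    refine (sub_eq_self.2 ?_).symm
    exact map_zero _
  have hz'' : z = ∑ i, a i.down • T' (zMap (sysMap C.V (biproduct.π _ i)) d ct') := by
    refine Subtype.ext (hz'.trans ?_)
    rw [Submodule.coe_sum]
    rfl
  rw [hz'', map_sum]
  refine Submodule.sum_mem _ fun i _ => ?_
  rw [map_smul]
  exact Submodule.smul_mem _ _ (hcoc _)

end FibVanLib
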