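import Groth.Agent.FibVanLib.General
import Groth.Agent.FibVanLib.TopFinite
import Groth.Agent.FibVanLib.Gen
import Groth.Agent.RpushLib.Finite
import Groth.Agent.RpushLib.FlatRpush

/-!
# Coherence of the direct image in the top degree
-/

set_option autoImplicit false
set_option maxHeartbeats 800000

universe u

open CategoryTheory CategoryTheory.Limits AlgebraicGeometry Opposite TopologicalSpace
open NoethApproxLib

namespace FibVanLib

/-- A Noetherian model as a closed subscheme of a base change. -/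
theorem exists_model_data {X S : Scheme.{u}} (f : X ⟶ S) [IsProper f] [IsAffine S] (s : S) (d : ℕ)
    (hd : topologicalKrullDim ↥(f.fiber s) ≤ d) :
    ∃ (Y T Y' : Scheme.{u}) (φ : Y ⟶ T) (g : S ⟶ T) (a : Y' ⟶ Y) (b : Y' ⟶ S) (k : X ⟶ Y'),
      IsProper φ ∧ IsLocallyNoetherian T ∧ IsAffineHom g ∧ IsPullback a b φ g ∧
      IsClosedImmersion k ∧ k ≫ b = f ∧ topologicalKrullDim ↥(φ.fiber (g s)) ≤ d := by
  obtain ⟨P, -, hP⟩ := exists_proper_system f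
  obtain ⟨i⟩ := IsCofiltered.nonempty (C := P.Jᵒᵖ)
  haveI := (hP i).1
  haveI hpr : IsProper (P.D.obj i).hom := (hP i).2
  haveI := P.lfp i
  obtain ⟨B⟩ := exists_approx S
  haveI : ∀ (j k : B.Jᵒᵖ) (a : j ⟶ k), IsAffineHom (B.D.map a) := fun _ _ a ↦ B.affine a
  obtain ⟨⟨j⟩, ⟨M₀⟩⟩ := DescFP.exists_model B.isLimit (P.D.obj i).hom
  haveI := M₀.lfp
  haveI := M₀.qc
  haveI := M₀.qs
  haveI := isDirected_tail B j
  haveI : Nonempty {c : B.J // j ≤ c} := ⟨⟨j, le_rfl⟩⟩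
  obtain ⟨⟨c₀⟩, hc₀⟩ := ConsLib.exists_at_isProper (tailSys B j) M₀.p (by
    show IsProper (pullback.snd M₀.p (B.proj j))
    rw [← M₀.sq.isoPullback_inv_snd]
    infer_instance)
  let M' := M₀.push (homOfLE c₀.2).op
  haveI : IsProper M'.p := hc₀
  let b : B.J := c₀.1
  let ι : X ⟶ pullback M'.p (B.proj b) := P.proj i ≫ M'.sq.isoPullback.hom
  have hι : ι ≫ pullback.snd M'.p (B.proj b) = f := by
    show (P.proj i ≫ M'.sq.isoPullback.hom) ≫ pullback.snd _ _ = f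
    rw [Category.assoc, IsPullback.isoPullback_hom_snd, P.proj_hom]
  obtain ⟨c, hc⟩ := exists_stage_fibre_dim B b M'.p ι s (d := (d : WithBot ℕ∞)) (by rw [hι]; exact hd)
  have htc : toClosedAt (baseApprox B b M'.p) ι c ≫ closedι (baseApprox B b M'.p) ι c = ι :=
    pullback.lift_snd _ _ _
  refine ⟨_, B.obj c.1, closedAt (baseApprox B b M'.p) ι c,
    imgι (baseApprox B b M'.p) ι c ≫ pullback.snd M'.p (B.map c.2), B.proj c.1, pullback.fst _ _,
    closedι (baseApprox B b M'.p) ι c ≫ pullback.snd M'.p (B.proj b), toClosedAt (baseApprox B b M'.p) ι c,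
    isProper_comp (isClosedImmersion_imageι _) (isProper_snd M'.p (B.map c.2)),
    B.isLocallyNoetherian (op c.1), B.isAffineHom_proj c.1,
    (IsPullback.of_hasPullback (imgι (baseApprox B b M'.p) ι c) ((baseApprox B b M'.p).proj c)).paste_vert
      (RichLib.LimBC.isPullback_cone (tailSys B b) M'.p (op c)), ?_, ?_, hc⟩
  · haveI : IsClosedImmersion (toClosedAt (baseApprox B b M'.p) ι c ≫ closedι (baseApprox B b M'.p) ι c) := by
      rw [htc]; infer_instance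
    exact IsClosedImmersion.of_comp _ (closedι (baseApprox B b M'.p) ι c)
  · rw [← Category.assoc, htc]
    exact hι

/-- Finitely many sections of `R^d f_*` near each point. -/
theorem exists_finite_sections {X S : Scheme.{u}} (f : X ⟶ S) [IsProper f] [IsAffine S] (d : ℕ)
    (hd : ∀ s : S, topologicalKrullDim ↥(f.fiber s) ≤ d) (M : X.Modules) (hM : Coh.IsCoh M) (s : S) :
    ∃ W : S.Opens, ∃ hW : IsAffineOpen W, s ∈ W ∧
      letI := Module.compHom (Coh.HHon X M (f ⁻¹ᵁ W) d) (Coh.toGlobal (RpushLib.overW f hW))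
      Module.Finite Γ(S, W) (Coh.HHon X M (f ⁻¹ᵁ W) d) := by
  haveI : Coh.IsQCoh M := hM.1
  obtain ⟨Y, T, Y', φ, g, a, b, k, hφ, hT, hga, H, hk, hkb, hc⟩ := exists_model_data f s d (hd s)
  obtain ⟨U₀, hU₀, hsU, hsub⟩ := exists_isAffineOpen_mem_and_subset
    (show g s ∈ (⟨_, FibDimLib.isOpen_fiber_dim_le φ φ.isClosedMap (d : WithBot ℕ∞)⟩ : T.Opens) from hc)
  refine ⟨g ⁻¹ᵁ U₀, hU₀.preimage g, hsU, ?_⟩
  let u : X ⟶ Y := k ≫ a
  haveI : IsAffineHom a := MorphismProperty.of_isPullback H.flip hga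
  haveI : IsAffineHom u := inferInstance
  have hu : u ≫ φ = f ≫ g := by rw [Category.assoc, H.w, ← hkb, Category.assoc]
  let W : S.Opens := g ⁻¹ᵁ U₀
  have hW : IsAffineOpen W := hU₀.preimage g
  have hle : f ⁻¹ᵁ W = u ⁻¹ᵁ (φ ⁻¹ᵁ U₀) := by
    show (f ≫ g) ⁻¹ᵁ U₀ = (u ≫ φ) ⁻¹ᵁ U₀
    rw [hu]
  let v : (f ⁻¹ᵁ W : Scheme.{u}) ⟶ (φ ⁻¹ᵁ U₀ : Scheme.{u}) := u.resLE (φ ⁻¹ᵁ U₀) (f ⁻¹ᵁ W) hle.le
  haveI : IsAffineHom v := by
    have : IsAffineHom ((f ⁻¹ᵁ W).ι ≫ u) := by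
      haveI : IsAffine (W : Scheme.{u}) := hW
      haveI : IsAffineHom (f ⁻¹ᵁ W).ι :=
        MorphismProperty.of_isPullback (isPullback_morphismRestrict f W) inferInstance
      infer_instance
    haveI : IsAffineHom (v ≫ (φ ⁻¹ᵁ U₀).ι) := by rw [Scheme.Hom.resLE_comp_ι]; exact this
    exact IsAffineHom.of_comp v (φ ⁻¹ᵁ U₀).ι
  let A₀ : Type u := Γ(T, U₀)
  let A : Type u := Γ(S, W)
  haveI : IsNoetherianRing A₀ := IsLocallyNoetherian.component_noetherian ⟨U₀, hU₀⟩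
  letI : Algebra A₀ A := (g.app U₀).hom.toAlgebra
  letI : (φ ⁻¹ᵁ U₀ : Scheme.{u}).Over (Spec (CommRingCat.of A₀)) := ⟨RpushLib.overW φ hU₀⟩
  letI : (f ⁻¹ᵁ W : Scheme.{u}).Over (Spec (CommRingCat.of A)) := ⟨RpushLib.overW f hW⟩
  haveI : IsProper ((φ ⁻¹ᵁ U₀ : Scheme.{u}) ↘ Spec (CommRingCat.of A₀)) :=
    inferInstanceAs (IsProper ((φ ∣_ U₀) ≫ hU₀.isoSpec.hom))
  haveI : IsAffine (U₀ : Scheme.{u}) := hU₀
  have hdim : ∀ t : (U₀ : Scheme.{u}), topologicalKrullDim ↥((φ ∣_ U₀).fiber t) ≤ d := fun t => by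
    rw [FibDimLib.topologicalKrullDim_fiber_baseChange (isPullback_morphismRestrict φ U₀).flip t]
    exact hsub t.2
  have hover : ∀ {Z R : Scheme.{u}} (ψ : Z ⟶ R) {V : R.Opens} (hV : IsAffineOpen V),
      RpushLib.overW ψ hV ≫ hV.fromSpec = (ψ ⁻¹ᵁ V).ι ≫ ψ := fun ψ V hV => overAff_fromSpec ψ hV
  have huv : v ≫ RpushLib.overW φ hU₀ =
      RpushLib.overW f hW ≫ Spec.map (CommRingCat.ofHom (algebraMap A₀ A)) := by
    rw [← cancel_mono hU₀.fromSpec, Category.assoc, Category.assoc, hover,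
      show Spec.map (CommRingCat.ofHom (algebraMap A₀ A)) = Spec.map (g.appLE U₀ W le_rfl) by
        rw [← Scheme.Hom.app_eq_appLE]; rfl,
      IsAffineOpen.SpecMap_appLE_fromSpec g hU₀ hW le_rfl, ← Category.assoc, Scheme.Hom.resLE_comp_ι,
      Category.assoc, hu, ← Category.assoc (RpushLib.overW f hW), hover, Category.assoc]
  refine finite_HH_top (A₀ := A₀) (A := A) v huv d
    (fun N hN => subsingleton_HH_noeth (φ ∣_ U₀) d hdim N (d + 1) (Nat.lt_succ_self d)) ?_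
    (M.restrict (f ⁻¹ᵁ W).ι) ⟨inferInstance, RpushLib.isFT_restrict hM.2 _⟩
  intro W' hW' r
  have hWY : IsAffineOpen ((φ ⁻¹ᵁ U₀).ι ''ᵁ W') := hW'.image_of_isOpenImmersion _
  have hWle : (φ ⁻¹ᵁ U₀).ι ''ᵁ W' ≤ φ ⁻¹ᵁ U₀ := Scheme.Opens.ι_image_le _ _
  have hVeq : (f ⁻¹ᵁ W).ι ''ᵁ (v ⁻¹ᵁ W') = u ⁻¹ᵁ ((φ ⁻¹ᵁ U₀).ι ''ᵁ W') ⊓ f ⁻¹ᵁ W := by
    rw [Scheme.Hom.resLE_preimage, Scheme.Hom.image_preimage_eq_opensRange_inf, Scheme.Opens.opensRange_ι,
      inf_comm]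
  obtain ⟨n, c, σ, e⟩ := exists_sum_appLE H k (u := u) rfl hkb hU₀ hW le_rfl hWY hWle _ hVeq r
  refine ⟨n, c, fun l => σ l, e.trans (Finset.sum_congr rfl fun l _ => congrArg₂ (· * ·) ?_ ?_)⟩
  · show _ = (f ⁻¹ᵁ W : Scheme.{u}).presheaf.map (homOfLE (le_top : v ⁻¹ᵁ W' ≤ ⊤)).op
      (Coh.toGlobal (RpushLib.overW f hW) (c l))
    rw [RpushLib.toGlobal_overW]
    show _ = (f.app W ≫ (f ⁻¹ᵁ W).topIso.inv ≫
      (f ⁻¹ᵁ W : Scheme.{u}).presheaf.map (homOfLE (le_top : v ⁻¹ᵁ W' ≤ ⊤)).op).hom (c l)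
    rw [Scheme.Opens.topIso_inv, Scheme.Hom.app_eq_appLE]
    erw [f.appLE_map_assoc, f.appLE_map]
    rfl
  · show _ = v.app W' (σ l)
    rw [Scheme.Hom.app_eq_appLE v, Scheme.Hom.resLE_appLE]
    rfl

/-- The direct image in the top degree is of finite type over an affine base. -/
theorem isFT_rpush_top_affine {X S : Scheme.{u}} (f : X ⟶ S) [IsProper f] [IsAffine S] (d : ℕ)
    (hd : ∀ s : S, topologicalKrullDim ↥(f.fiber s) ≤ d) [HasInjectiveResolutions X.Modules] (M : X.Modules)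
    (hM : Coh.IsCoh M) : CohB1.IsFT ((Coh.Rpush f d).obj M) := by
  haveI : Coh.IsQCoh M := hM.1
  haveI := RpushLib.isQCoh_Rpush f M d
  refine QCohLib.isFT_of_finite fun p => ?_
  obtain ⟨W, hW, hp, hfin⟩ := exists_finite_sections f d hd M hM p
  refine ⟨W, hW, hp, ?_⟩
  let _ := Module.compHom (Coh.HHon X M (f ⁻¹ᵁ W) d) (Coh.toGlobal (RpushLib.overW f hW))
  refine AtlasCoh.finite_of_addEquiv (RpushLib.rpushSectionsEquiv f M d hW).symm fun r x => ?_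
  rw [AddEquiv.symm_apply_eq, RpushLib.rpushSectionsEquiv_smul, AddEquiv.apply_symm_apply]
  exact congrArg (fun a : Coh.Γtop (f ⁻¹ᵁ W : Scheme.{u}) => a • x) (RpushLib.toGlobal_overW f hW r)

/-- **The direct image in the top degree is coherent.** -/
theorem isCoh_rpush_top {X Y : Scheme.{u}} (f : X ⟶ Y) [IsProper f] (d : ℕ)
    (hd : ∀ y : Y, topologicalKrullDim ↥(f.fiber y) ≤ d) [HasInjectiveResolutions X.Modules] (M : X.Modules)
    (hM : Coh.IsCoh M) : Coh.IsCoh ((Coh.Rpush f d).obj M) := by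
  haveI : Coh.IsQCoh M := hM.1
  haveI := RpushLib.isQCoh_Rpush f M d
  refine ⟨this, QCohLib.isFT_of_cover _ (fun U : Y.affineOpens => U.1) (iSup_affineOpens_eq_top Y) fun U => ?_⟩
  haveI : IsAffine (U.1 : Scheme.{u}) := U.2
  haveI : IsProper (f ∣_ U.1) :=
    MorphismProperty.of_isPullback (isPullback_morphismRestrict f U.1).flip inferInstance
  obtain ⟨e⟩ := RpushLib.nonempty_pullback_rpush_iso (isPullback_morphismRestrict f U.1).flip M d
  have h := isFT_rpush_top_affine (f ∣_ U.1) d (fun t => by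
      rw [FibDimLib.topologicalKrullDim_fiber_baseChange (isPullback_morphismRestrict f U.1).flip t]
      exact hd _) ((Scheme.Modules.pullback (f ⁻¹ᵁ U.1).ι).obj M) (ConsLib.isCoh_pullback _ hM)
  exact QCohLib.isFT_of_iso ((Scheme.Modules.restrictFunctorIsoPullback U.1.ι).app _ ≪≫ e).symm h

end FibVanLib
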