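import Groth.Agent.FibVanLib.H1
import Groth.Agent.FibVanLib.GlobGen
import Groth.Agent.FibVanLib.Top
import Groth.Agent.FibVanLib.Affine
import Groth.Agent.MiscFlat6.QALocus
import Groth.Agent.DevissLib.ClosedImm

/-!
# Vanishing of `H¹` from the fibres
-/

set_option autoImplicit false
set_option maxHeartbeats 800000

universe u

open CategoryTheory CategoryTheory.Limits AlgebraicGeometry TopologicalSpace Opposite
open GradedCechLib (Sys Cochain rng dd rng_nonempty)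
open FormalLib

namespace FibVanLib

/-- Isomorphic modules have cohomology vanishing together. -/
theorem subsingleton_HH_congr {Z : Scheme.{u}} {M N : Z.Modules} (e : M ≅ N) {p : ℕ}
    (h : Subsingleton (Coh.HH Z N p)) : Subsingleton (Coh.HH Z M p) := by
  obtain ⟨e'⟩ := nonempty_hh_congr Z.toSpecΓ e p
  exact e'.toEquiv.subsingleton

/-- `H^p` of the structure sheaf along an isomorphism. -/
theorem subsingleton_HH_structure_of_iso {Z Z' : Scheme.{u}} (e : Z ≅ Z') {p : ℕ}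
    (h : Subsingleton (Coh.HH Z (Coh.structureModule Z) p)) :
    Subsingleton (Coh.HH Z' (Coh.structureModule Z') p) := by
  haveI : Coh.IsQCoh (Coh.structureModule Z) := QCohLib.isQCoh_unit
  haveI : Coh.IsQCoh (Coh.structureModule Z') := QCohLib.isQCoh_unit
  haveI : IsIso (QCohLib.structMap e.hom) := QCohLib.isIso_of_bijective_affine _ fun V _ =>
    ConcreteCategory.bijective_of_isIso (e.hom.app V)
  refine subsingleton_HH_congr (asIso (QCohLib.structMap e.hom)) ?_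
  obtain ⟨e'⟩ := QCohLib.nonempty_HH_push e.hom (Coh.structureModule Z) p
  exact e'.symm.toEquiv.subsingleton

/-- A square over an open piece of the base. -/
theorem exists_square {X Y Z T P S : Scheme.{u}} {k : Z ⟶ X} {q : Z ⟶ T} {f : X ⟶ Y} {j : T ⟶ Y}
    (sq : IsPullback k q f j) {o : P ⟶ X} {p : P ⟶ S} (m : S ⟶ T) (hP : IsPullback o p f (m ≫ j)) :
    ∃ u : P ⟶ Z, u ≫ k = o ∧ IsPullback u p q m := by
  refine ⟨sq.lift o (p ≫ m) (by rw [hP.w, Category.assoc]), sq.lift_fst _ _ _, ?_⟩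
  refine IsPullback.of_right ?_ (sq.lift_snd _ _ _) sq
  rw [sq.lift_fst]
  exact hP

/-- The fraction property of the residue field at a point of a preimmersed spectrum. -/
theorem exists_frac {A : Type u} [CommRing A] {K : Type u} [Field K] (φ : A →+* K)
    (h : φ.SurjectiveOnStalks) (x : K) : ∃ a s : A, φ s ≠ 0 ∧ x * φ s = φ a := by
  haveI : (⊥ : Ideal K).IsPrime := Ideal.bot_prime
  obtain ⟨a, r, c, hc, hr, e⟩ := (RingHom.surjective_localRingHom_iff (f := φ) ⊥).1 (h ⊥ inferInstance) x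
  rw [mul_assoc] at e
  exact ⟨a, r, fun h0 => hr (Ideal.mem_bot.2 h0),
    by rw [mul_comm]; exact mul_left_cancel₀ (fun h0 => hc (Ideal.mem_bot.2 h0)) e⟩

/-- **The vanishing locus.** -/
theorem exists_nhd_H1 {X Y : Scheme.{u}} (f : X ⟶ Y) [IsProper f] (y : Y)
    (hdim : topologicalKrullDim ↥(f.fiber y) ≤ 1)
    (hH1 : Subsingleton (Coh.HH (f.fiber y) (Coh.structureModule (f.fiber y)) 1)) :
    ∃ V : Y.Opens, y ∈ V ∧ ∀ {X' Y' : Scheme.{u}} {g : Y' ⟶ Y} {g' : X' ⟶ X} {f' : X' ⟶ Y'},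
      IsPullback g' f' f g → ∀ (U : Y'.Opens), IsAffineOpen U → U ≤ g ⁻¹ᵁ V →
        Subsingleton (Coh.HH (f' ⁻¹ᵁ U : Scheme.{u}) (Coh.structureModule (f' ⁻¹ᵁ U : Scheme.{u})) 1) := by
  obtain ⟨W₁, hW₁, hy₁, hsub⟩ := exists_isAffineOpen_mem_and_subset
    (show y ∈ (⟨_, FibDimLib.isOpen_fiber_dim_le f f.isClosedMap ((1 : ℕ) : WithBot ℕ∞)⟩ : Y.Opens) from hdim)
  haveI : IsAffine (W₁ : Scheme.{u}) := hW₁
  let f₁ := f ∣_ W₁
  haveI : IsProper f₁ := MorphismProperty.of_isPullback (isPullback_morphismRestrict f W₁).flip inferInstance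
  have hd₁ : ∀ s : (W₁ : Scheme.{u}), topologicalKrullDim ↥(f₁.fiber s) ≤ ((1 : ℕ) : WithBot ℕ∞) := fun s => by
    rw [FibDimLib.topologicalKrullDim_fiber_baseChange (isPullback_morphismRestrict f W₁).flip s]
    exact hsub s.2
  obtain ⟨W, hW, hyW, hfin⟩ := exists_finite_sections f₁ 1 hd₁ (Coh.structureModule _)
    (DevissLib.isCoh_structureModule _) ⟨y, hy₁⟩
  let A : Type u := Γ((W₁ : Scheme.{u}), W)
  let Z : Scheme.{u} := (f₁ ⁻¹ᵁ W : Scheme.{u})
  let j : Spec (CommRingCat.of A) ⟶ Y := hW.fromSpec ≫ W₁.ι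
  letI : Z.Over (Spec (CommRingCat.of A)) := ⟨RpushLib.overW f₁ hW⟩
  let q : Z ⟶ Spec (CommRingCat.of A) := Z ↘ Spec (CommRingCat.of A)
  have sq : IsPullback ((f₁ ⁻¹ᵁ W).ι ≫ (f ⁻¹ᵁ W₁).ι) q f j :=
    (isPullback_overAff f₁ hW).paste_horiz (isPullback_morphismRestrict f W₁).flip
  haveI : IsProper q := MorphismProperty.of_isPullback sq inferInstance
  haveI : Coh.IsQCoh (Coh.structureModule Z) := QCohLib.isQCoh_unit
  have hdq : ∀ t : Spec (CommRingCat.of A), topologicalKrullDim ↥(q.fiber t) ≤ ((1 : ℕ) : WithBot ℕ∞) := fun t => by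
    rw [FibDimLib.topologicalKrullDim_fiber_baseChange sq t]
    exact hsub (hW.fromSpec t).2
  have hvan : ∀ (N : Z.Modules), Coh.IsQCoh N → Subsingleton (Coh.HH Z N 2) := fun N hN =>
    subsingleton_HH_affine q 1 hdq N 2 one_lt_two
  haveI : Module.Finite A (Coh.HH Z (Coh.structureModule Z) 1) := by
    obtain ⟨eO⟩ := MiscFlat6.nonempty_restrict_structureModule
      (X := (f ⁻¹ᵁ W₁ : Scheme.{u})) (f₁ ⁻¹ᵁ W).ι
    obtain ⟨e⟩ := nonempty_hh_congr (RpushLib.overW f₁ hW) eO 1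
    letI := Module.compHom (Coh.HH Z (Scheme.Modules.restrict (Coh.structureModule (f ⁻¹ᵁ W₁ : Scheme.{u}))
      (f₁ ⁻¹ᵁ W).ι) 1) (Coh.toGlobal (RpushLib.overW f₁ hW))
    exact Module.Finite.of_surjective e.toLinearMap e.surjective
  -- the fibre
  let K : Type u := Y.residueField y
  have hyj : y ∈ Set.range j := by
    obtain ⟨t, ht⟩ : (⟨y, hy₁⟩ : (W₁ : Scheme.{u})) ∈ Set.range hW.fromSpec := by
      rw [hW.range_fromSpec]; exact hyW
    exact ⟨t, congrArg W₁.ι ht⟩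
  let k₀ : Spec (CommRingCat.of K) ⟶ Spec (CommRingCat.of A) := IsOpenImmersion.lift j (Y.fromSpecResidueField y) (by
    rw [Scheme.range_fromSpecResidueField]; exact Set.singleton_subset_iff.2 hyj)
  have hk₀ : k₀ ≫ j = Y.fromSpecResidueField y := IsOpenImmersion.lift_fac _ _ _
  haveI : IsPreimmersion k₀ := by
    haveI : IsPreimmersion (k₀ ≫ j) := by rw [hk₀]; infer_instance
    exact IsPreimmersion.of_comp k₀ j
  letI : Algebra A K := (Spec.preimage k₀).hom.toAlgebra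
  have hk : Spec.map (CommRingCat.ofHom (algebraMap A K)) = k₀ := Spec.map_preimage k₀
  letI : (f.fiber y).Over (Spec (CommRingCat.of K)) := ⟨f.fiberToSpecResidueField y⟩
  obtain ⟨u, -, hu⟩ := exists_square sq (P := f.fiber y) (o := f.fiberι y)
    (p := f.fiber y ↘ Spec (CommRingCat.of K)) (Spec.map (CommRingCat.ofHom (algebraMap A K))) (by
      rw [hk, hk₀]; exact IsPullback.of_hasPullback f (Y.fromSpecResidueField y))
  have hfrac : ∀ x : K, ∃ a s : A, algebraMap A K s ≠ 0 ∧ x * algebraMap A K s = algebraMap A K a :=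
    exists_frac _ (SurjectiveOnStalks.Spec_iff.1 (show SurjectiveOnStalks
      (Spec.map (CommRingCat.ofHom (algebraMap A K))) by rw [hk]; infer_instance))
  obtain ⟨r, hr, hrz⟩ := exists_smul_eq_zero u hu hfrac hvan hH1
  refine ⟨j ''ᵁ PrimeSpectrum.basicOpen r, ?_, ?_⟩
  · let t : Spec (CommRingCat.of K) := IsLocalRing.closedPoint K
    refine ⟨k₀ t, ?_, ?_⟩
    · rw [← hk]
      show algebraMap A K r ∉ t.asIdeal
      intro h
      exact t.isPrime.ne_top (Ideal.eq_top_of_isUnit_mem _ h (isUnit_iff_ne_zero.2 hr))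
    · show (k₀ ≫ j) t = y
      rw [hk₀, Scheme.fromSpecResidueField_apply]
  intro X' Y' g g' f' H U hU hle
  haveI : IsProper f' := MorphismProperty.of_isPullback H inferInstance
  let B : Type u := Γ(Y', U)
  let g₁ : Spec (CommRingCat.of B) ⟶ Spec (CommRingCat.of A) := IsOpenImmersion.lift j (hU.fromSpec ≫ g) (by
    rintro _ ⟨x, rfl⟩
    obtain ⟨t, -, ht⟩ := hle (show hU.fromSpec x ∈ (U : Set Y') from hU.range_fromSpec.subset (Set.mem_range_self x))
    exact ⟨t, ht⟩)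
  have hg₁ : g₁ ≫ j = hU.fromSpec ≫ g := IsOpenImmersion.lift_fac _ _ _
  letI : Algebra A B := (Spec.preimage g₁).hom.toAlgebra
  have hg : Spec.map (CommRingCat.ofHom (algebraMap A B)) = g₁ := Spec.map_preimage g₁
  letI : (f' ⁻¹ᵁ U : Scheme.{u}).Over (Spec (CommRingCat.of B)) := ⟨RpushLib.overW f' hU⟩
  obtain ⟨v, -, hv⟩ := exists_square sq (P := (f' ⁻¹ᵁ U : Scheme.{u})) (o := (f' ⁻¹ᵁ U).ι ≫ g')
    (p := (f' ⁻¹ᵁ U : Scheme.{u}) ↘ Spec (CommRingCat.of B)) (Spec.map (CommRingCat.ofHom (algebraMap A B))) (by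
      rw [hg, hg₁]; exact (isPullback_overAff f' hU).paste_horiz H)
  refine subsingleton_H1_baseChange v hv hvan r hrz ?_
  by_contra hnu
  obtain ⟨M, hM, hrM⟩ := exists_max_ideal_of_mem_nonunits hnu
  let x : Spec (CommRingCat.of B) := ⟨M, hM.isPrime⟩
  obtain ⟨t, ht, htx⟩ := hle (show hU.fromSpec x ∈ (U : Set Y') from hU.range_fromSpec.subset (Set.mem_range_self x))
  have : t = g₁ x := j.isOpenEmbedding.injective (htx.trans (congr($(hg₁) x)).symm)
  rw [this, ← hg] at ht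
  exact ht hrM

variable {X Y : Scheme.{u}} (f : X ⟶ Y) [IsProper f] [IsAffine Y]
  (hdim : ∀ y : Y, topologicalKrullDim ↥(f.fiber y) ≤ 1)
  (hH1 : ∀ y : Y, Subsingleton (Coh.HH (f.fiber y) (Coh.structureModule (f.fiber y)) 1))

include hdim hH1 in
/-- `H¹(X, O) = 0` when it vanishes on all fibres. -/
theorem subsingleton_H1_structure : Subsingleton (Coh.HH X (Coh.structureModule X) 1) := by
  haveI : Coh.IsQCoh (Coh.structureModule X) := QCohLib.isQCoh_unit
  refine subsingleton_HH_structure_of_iso X.topIso ?_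
  obtain ⟨eO⟩ := MiscFlat6.nonempty_restrict_structureModule (X := X) (⊤ : X.Opens).ι
  refine subsingleton_HH_congr eO.symm ?_
  show Subsingleton (Coh.HHon X (Coh.structureModule X) (f ⁻¹ᵁ ⊤) 1)
  refine @Equiv.subsingleton _ _ (RpushLib.rpushSectionsEquiv f (Coh.structureModule X) 1 (isAffineOpen_top Y)).toEquiv.symm ?_
  refine ⟨fun a b => TopCat.Presheaf.section_ext (⟨_, ((Coh.Rpush f 1).obj (Coh.structureModule X)).isSheaf⟩ :
    TopCat.Sheaf AddCommGrpCat.{u} Y.toTopCat) ⊤ a b fun y _ => ?_⟩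
  obtain ⟨V, hyV, hV⟩ := exists_nhd_H1 f y (hdim y) (hH1 y)
  obtain ⟨D, hD, hyD, hDV⟩ := exists_isAffineOpen_mem_and_subset hyV
  have : Subsingleton Γ((Coh.Rpush f 1).obj (Coh.structureModule X), D) := by
    obtain ⟨eD⟩ := MiscFlat6.nonempty_restrict_structureModule (X := X) (f ⁻¹ᵁ D).ι
    have h := subsingleton_HH_congr eD (hV (g := 𝟙 Y) (g' := 𝟙 X) (IsPullback.of_horiz_isIso ⟨by simp⟩) D hD hDV)
    exact (RpushLib.rpushSectionsEquiv f (Coh.structureModule X) 1 hD).toEquiv.subsingleton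
  refine TopCat.Presheaf.germ_ext _ D hyD (homOfLE le_top) (homOfLE le_top) ?_
  exact this.elim _ _

include hdim hH1 in
/-- `H¹` of a globally generated module vanishes when `H¹(O)` vanishes on all fibres. -/
theorem subsingleton_H1_globGen (F : X.Modules) [Coh.IsQCoh F] (ι : Type u)
    (e : (∐ fun _ : ι => Coh.structureModule X) ⟶ F) [Epi e] : Subsingleton (Coh.HH X F 1) := by
  classical
  haveI hO : Coh.IsQCoh (Coh.structureModule X) := QCohLib.isQCoh_unit
  have h1 := subsingleton_H1_structure f hdim hH1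
  letI : X.Over (Spec (CommRingCat.of Γ(Y, ⊤))) := ⟨f ≫ Y.isoSpec.hom⟩
  haveI : IsProper (X ↘ Spec (CommRingCat.of Γ(Y, ⊤))) := inferInstanceAs (IsProper (f ≫ Y.isoSpec.hom))
  obtain ⟨C, -⟩ := exists_setup_cover Γ(Y, ⊤) X
  have hvan : ∀ (N : X.Modules), Coh.IsQCoh N → Subsingleton (Coh.HH X N 2) := fun N hN =>
    subsingleton_HH_affine f 1 hdim N 2 one_lt_two
  refine subsingleton_of_forall_eq 0 fun x => ?_
  obtain ⟨z, rfl⟩ := C.surj F inferInstance 1 x
  let φ : ι → (Coh.structureModule X ⟶ (Coh.push (𝟙 X)).obj F) := fun i =>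
    (Sigma.ι (fun _ : ι => Coh.structureModule X) i ≫ e) ≫ idPush F
  have hspan : z.1 ∈ Submodule.span Γ(Y, ⊤) (Set.range fun q : Σ _ : ι,
      Cochain (sysOf Γ(Y, ⊤) C.V (Coh.structureModule X)) 1 =>
      Tmap (A₀ := Γ(Y, ⊤)) (A := Γ(Y, ⊤)) (𝟙 X) C.V (φ q.1) 1 q.2) := by
    refine cochain_mem_span (𝟙 X) C.V φ 1 z.1 fun J => ?_
    obtain ⟨t, c, hc⟩ := exists_eq_sum_of_epi e (C.caps _ (rng_nonempty J))
      (show Γ(F, (rng J).inf C.V) from z.1 J)
    have : z.1 J = ∑ i ∈ t, capEquiv (A₀ := Γ(Y, ⊤)) (A := Γ(Y, ⊤)) (𝟙 X) C.V F (rng J)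
        (secMap (φ i) _ (toSec Γ(Y, ⊤) (Coh.structureModule X) _ (c i))) := by
      refine hc.trans (Eq.trans (Eq.symm (map_sum (toSec Γ(Y, ⊤) F ((rng J).inf C.V))
        (fun i => (Sigma.ι (fun _ : ι => Coh.structureModule X) i ≫ e).app _ (c i)) t))
        (Finset.sum_congr rfl fun i _ => (capEquiv_id C.V F (rng J) _).symm))
    rw [this]
    refine Submodule.sum_mem _ fun i _ => ?_
    refine @Submodule.subset_span Γ(Y, ⊤) _ _ (_) (_) _ _ ?_
    exact ⟨⟨i, _⟩, rfl⟩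
  have h := cls_mem_span (A₀ := Γ(Y, ⊤)) (A := Γ(Y, ⊤)) (𝟙 X) C C.κ C.kills inferInstance 1 hvan
    (G := fun _ : ι => Coh.structureModule X) (fun _ => hO) φ z hspan
  refine (Submodule.mem_bot _).1 (Submodule.span_le.2 ?_ h)
  rintro _ ⟨⟨i, c⟩, rfl⟩
  exact (Submodule.mem_bot _).2
    (cls_Tz_eq_zero (𝟙 X) C C.κ C.kills inferInstance hO (φ i) 1 c (h1.elim _ _))

end FibVanLib
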