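import Groth.Agent.FibVanLib.Limit
import Groth.Agent.NoethApproxLib.Closed

/-!
# Closed subschemes of finite presentation with small fibres
-/

set_option autoImplicit false

universe u

open CategoryTheory CategoryTheory.Limits AlgebraicGeometry Opposite TopologicalSpace
open NoethApproxLib

namespace FibVanLib

theorem exists_closed_fp_fibre_dim_le {X S Z : Scheme.{u}} [CompactSpace S]
    [QuasiSeparatedSpace S] (f : X ⟶ S) [LocallyOfFinitePresentation f] [QuasiCompact f] [QuasiSeparated f]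
    (d : ℕ) (ι : Z ⟶ X) [IsClosedImmersion ι] (hZ : ∀ s : S, topologicalKrullDim ↥((ι ≫ f).fiber s) ≤ d) :
    ∃ (Z' : Scheme.{u}) (ι' : Z' ⟶ X) (k : Z ⟶ Z'), IsClosedImmersion ι' ∧ LocallyOfFinitePresentation ι' ∧
      k ≫ ι' = ι ∧ ∀ s : S, topologicalKrullDim ↥((ι' ≫ f).fiber s) ≤ d := by
  haveI : CompactSpace X := QuasiCompact.compactSpace_of_compactSpace f
  haveI : QuasiSeparatedSpace X := quasiSeparatedSpace_of_quasiSeparated f
  obtain ⟨B⟩ := exists_approx X
  haveI : IsConnected B.Jᵒᵖ := IsCofiltered.isConnected B.Jᵒᵖ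
  let DX : B.Jᵒᵖ ⥤ Scheme.{u} := closedDiag B ι ⋙ Over.forget X
  let DS : B.Jᵒᵖ ⥤ Scheme.{u} := (Functor.const _).obj S
  let φ : DX ⟶ DS :=
    { app := fun j => closedι B ι j.unop ≫ f
      naturality := fun i j a => by
        show closedMap B ι (leOfHom a.unop) ≫ closedι B ι j.unop ≫ f = (closedι B ι i.unop ≫ f) ≫ 𝟙 S
        rw [← Category.assoc, closedMap_ι, Category.comp_id] }
  haveI hA : ∀ (i j : B.Jᵒᵖ) (a : i ⟶ j), IsAffineHom (DS.map a) := fun _ _ _ =>
    inferInstanceAs (IsAffineHom (𝟙 S))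
  haveI : ∀ i, CompactSpace (DS.obj i) := fun _ => ‹_›
  haveI : ∀ i, QuasiSeparatedSpace (DS.obj i) := fun _ => ‹_›
  haveI : ∀ i, LocallyOfFiniteType (φ.app i) := fun i =>
    inferInstanceAs (LocallyOfFiniteType (closedι B ι i.unop ≫ f))
  haveI : ∀ i, QuasiCompact (φ.app i) := fun i => inferInstanceAs (QuasiCompact (closedι B ι i.unop ≫ f))
  obtain ⟨j, hj⟩ := exists_stage_forall_fibre_dim DX DS φ ((Over.forget X).mapCone (closedCone B ι))
    (constCone B.Jᵒᵖ S) (isLimitOfPreserves (Over.forget X) (nonempty_isLimit_closedCone B ι).some)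
    (isLimitConstCone B.Jᵒᵖ S) (fun i k a => by
      haveI : IsClosedImmersion (DX.map a) := isClosedImmersion_closedMap B ι (leOfHom a.unop)
      haveI : IsClosedImmersion (pullback.lift (DX.map a) (φ.app i) (φ.naturality a) ≫
          pullback.fst (φ.app k) (DS.map a)) := by rw [pullback.lift_fst]; infer_instance
      haveI : IsSeparated (pullback.fst (φ.app k) (DS.map a)) :=
        MorphismProperty.pullback_fst _ _ (inferInstanceAs (IsSeparated (𝟙 S)))
      exact IsClosedImmersion.of_comp _ (pullback.fst (φ.app k) (DS.map a)))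
    (ι ≫ f) (fun i => by
      show (ι ≫ f) ≫ 𝟙 S = toClosedAt B ι i.unop ≫ closedι B ι i.unop ≫ f
      rw [Category.comp_id, ← Category.assoc (toClosedAt B ι i.unop)]
      exact congrArg (· ≫ f) (pullback.lift_snd _ _ _).symm) d hZ
  exact ⟨closedAt B ι j.unop, closedι B ι j.unop, toClosedAt B ι j.unop, inferInstance,
    lfp_closedι B ι j.unop, pullback.lift_snd _ _ _, hj⟩

end FibVanLib
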