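import Groth.Agent.FibVanLib.Span
import Groth.Agent.FibVanLib.Gen
import Groth.Agent.QCohLib.SerreCrit
import Mathlib.LinearAlgebra.Matrix.Charpoly.LinearMap
import Mathlib.RingTheory.Localization.FractionRing

/-!
# `H¹` of the structure sheaf and the fibres, when `H²` vanishes
-/

set_option autoImplicit false
set_option maxHeartbeats 800000

universe u

open CategoryTheory CategoryTheory.Limits AlgebraicGeometry TopologicalSpace Opposite
open GradedCechLib (Sys Cochain rng dd rng_nonempty)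
open FormalLib

namespace FibVanLib

section BaseChange

variable {A₀ A : Type u} [CommRing A₀] [CommRing A] [Algebra A₀ A]
  {Y : Scheme.{u}} [Y.Over (Spec (CommRingCat.of A₀))]
  {X : Scheme.{u}} [X.Over (Spec (CommRingCat.of A))]
  (u : X ⟶ Y)
  (H : IsPullback u (X ↘ Spec (CommRingCat.of A)) (Y ↘ Spec (CommRingCat.of A₀))
    (Spec.map (CommRingCat.ofHom (algebraMap A₀ A))))

include H in
theorem isAffineHom_of_square : IsAffineHom u :=
  MorphismProperty.of_isPullback H.flip inferInstance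

include H in
theorem Tmap_smul {m : ℕ} (U : Fin m → Y.Opens) {F : X.Modules} {G : Y.Modules} (φ : G ⟶ (Coh.push u).obj F)
    (q : ℕ) (b : A₀) (c : Cochain (sysOf A₀ U G) q) :
    Tmap (A := A) u U φ q (b • c) = algebraMap A₀ A b • Tmap u U φ q c := by
  show cochEquiv (A₀ := A₀) (A := A) u U F q (cochainMap (sysMap U φ) q (b • c)) = _
  rw [map_smul, cochEquiv_smul u H.w]
  rfl

include H in
/-- Cochains of the base change are combinations of cochains. -/
theorem cochain_mem_span_structMap {m : ℕ} (U : Fin m → Y.Opens)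
    (hU : ∀ s : Finset (Fin m), s.Nonempty → IsAffineOpen (s.inf U)) (d : ℕ)
    (z : Cochain (sysOf A (preV u U) (Coh.structureModule X)) d) :
    z ∈ Submodule.span A (Set.range fun q : Σ _ : Unit, Cochain (sysOf A₀ U (Coh.structureModule Y)) d =>
      Tmap u U (QCohLib.structMap u) d q.2) := by
  refine cochain_mem_span u U (fun _ : Unit => QCohLib.structMap u) d z fun J => ?_
  let W : Y.Opens := (rng J).inf U
  let O := Coh.structureModule X
  obtain ⟨x, hx⟩ := (capEquiv (A₀ := A₀) (A := A) u U O (rng J)).surjective (z J)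
  obtain ⟨r, rfl⟩ := (toSec A₀ ((Coh.push u).obj O) W).surjective x
  let r' : Γ(X, u ⁻¹ᵁ W) := r
  obtain ⟨n, c, s, e⟩ := exists_sum_appLE H (𝟙 X) (u := u) (Category.id_comp _)
    (f := X ↘ Spec (CommRingCat.of A)) (Category.id_comp _) (isAffineOpen_top _)
    (isAffineOpen_top _) le_top (hU _ (rng_nonempty J)) le_top (u ⁻¹ᵁ W) (inf_top_eq _).symm r'
  let a : Fin n → A := fun l => (Scheme.ΓSpecIso (CommRingCat.of A)).hom (c l)
  have e' : r' = ∑ l, rhoA A (u ⁻¹ᵁ W) (a l) * u.app W (s l) := by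
    refine e.trans (Finset.sum_congr rfl fun l _ => congrArg₂ (· * ·) ?_ ?_)
    · show _ = X.presheaf.map (homOfLE le_top).op ((X ↘ Spec (CommRingCat.of A)).appTop
        ((Scheme.ΓSpecIso (CommRingCat.of A)).inv ((Scheme.ΓSpecIso (CommRingCat.of A)).hom (c l))))
      rw [Iso.hom_inv_id_apply]
      rfl
    · rw [Scheme.Hom.app_eq_appLE]
  rw [← hx, show r = (show Γ((Coh.push u).obj O, W) from ∑ l, rhoA A (u ⁻¹ᵁ W) (a l) * u.app W (s l)) from e']
  show capEquiv (A₀ := A₀) (A := A) u U O (rng J) (toSec A₀ _ W (∑ l,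
    (show Γ((Coh.push u).obj O, W) from rhoA A (u ⁻¹ᵁ W) (a l) * u.app W (s l)))) ∈ _
  rw [map_sum, map_sum]
  refine Submodule.sum_mem _ fun l _ => ?_
  have e2 : capEquiv (A₀ := A₀) (A := A) u U O (rng J)
      (toSec A₀ _ W (show Γ((Coh.push u).obj O, W) from rhoA A (u ⁻¹ᵁ W) (a l) * u.app W (s l))) =
      a l • capEquiv (A₀ := A₀) (A := A) u U O (rng J)
        (secMap (QCohLib.structMap u) _ (toSec A₀ (Coh.structureModule Y) W (s l))) :=
    capEquiv_secMap_push u U O (rng J) (a l)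
      (secMap (QCohLib.structMap u) _ (toSec A₀ (Coh.structureModule Y) W (s l)))
  rw [e2]
  exact Submodule.smul_mem _ _ (Submodule.subset_span ⟨⟨(), _⟩, rfl⟩)

include H in
/-- What kills `H¹` and becomes invertible kills `H¹` of the base change. -/
theorem subsingleton_H1_baseChange [IsProper (Y ↘ Spec (CommRingCat.of A₀))]
    (hvan : ∀ (N : Y.Modules), Coh.IsQCoh N → Subsingleton (Coh.HH Y N 2))
    (s : A₀) (hs : ∀ x : Coh.HH Y (Coh.structureModule Y) 1, s • x = 0) (hu : IsUnit (algebraMap A₀ A s)) :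
    Subsingleton (Coh.HH X (Coh.structureModule X) 1) := by
  haveI := isAffineHom_of_square u H
  obtain ⟨C, hcov⟩ := exists_setup_cover A₀ Y
  haveI : Y.IsSeparated := ⟨by
    rw [← terminal.comp_from (Y ↘ Spec (CommRingCat.of A₀))]
    infer_instance⟩
  haveI : X.IsSeparated := ⟨by rw [← terminal.comp_from u]; infer_instance⟩
  have hcovV : ⨆ i, preV u C.V i = ⊤ := eq_top_iff.2 fun x _ => by
    obtain ⟨i, hi⟩ := Opens.mem_iSup.1 (hcov.ge (Opens.mem_top (u x)))
    exact Opens.mem_iSup.2 ⟨i, hi⟩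
  obtain ⟨κ, hκs, -, hκk, -⟩ := exists_cls A (preV u C.V) (fun i => (C.affine i).preimage u) hcovV
  haveI hOX : Coh.IsQCoh (Coh.structureModule X) := QCohLib.isQCoh_unit
  haveI hOY : Coh.IsQCoh (Coh.structureModule Y) := QCohLib.isQCoh_unit
  refine subsingleton_of_forall_eq 0 fun x => ?_
  obtain ⟨z, rfl⟩ := hκs _ hOX 1 x
  have h := cls_mem_span u C κ hκk hOX 1 hvan (ι' := Unit) (fun _ => hOY) (fun _ => QCohLib.structMap u) z
    (cochain_mem_span_structMap u H C.V C.caps 1 z.1)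
  have h2 : algebraMap A₀ A s • κ _ hOX 1 z = 0 := by
    refine Submodule.span_induction (p := fun y _ => algebraMap A₀ A s • y = 0) ?_ (smul_zero _)
      (fun y y' _ _ hy hy' => by rw [smul_add, hy, hy', add_zero])
      (fun c y _ hy => by rw [smul_comm, hy, smul_zero]) h
    rintro _ ⟨⟨-, c⟩, rfl⟩
    rw [← map_smul, ← Tz_smul u C.V H.w]
    exact cls_Tz_eq_zero u C κ hκk hOX hOY _ 1 _ (by rw [map_smul]; exact hs _)
  obtain ⟨v, hv⟩ := hu.exists_left_inv
  rw [← one_smul A (κ _ hOX 1 z), ← hv, mul_smul, h2, smul_zero]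

end BaseChange

section Identity

variable {A : Type u} [CommRing A] {X : Scheme.{u}} [X.Over (Spec (CommRingCat.of A))]

/-- A module as its own direct image. -/
noncomputable def idPush (F : X.Modules) : F ⟶ (Coh.push (𝟙 X)).obj F :=
  (Scheme.Modules.pushforwardId X).inv.app F

theorem capEquiv_id {m : ℕ} (U : Fin m → X.Opens) (F : X.Modules) (s : Finset (Fin m))
    (x : Γ(F, s.inf U)) :
    capEquiv (A₀ := A) (A := A) (𝟙 X) U F s (secMap (idPush F) _ (toSec A F _ x)) = toSec A F _ x := by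
  show F.presheaf.map (homOfLE (inf_preV (𝟙 X) U s).le).op x = x
  exact (congrArg (fun i => F.presheaf.map i x) (Subsingleton.elim _ (𝟙 (op (s.inf U))))).trans
    (ConcreteCategory.congr_hom (F.presheaf.map_id _) x)

/-- A cocycle with values in `pO` has class in `pH¹`, when `H²` vanishes. -/
theorem cls_mem_smul [IsProper (X ↘ Spec (CommRingCat.of A))] (C : Setup A X) (p : Ideal A)
    (hO : Coh.IsQCoh (Coh.structureModule X))
    (hvan : ∀ (N : X.Modules), Coh.IsQCoh N → Subsingleton (Coh.HH X N 2))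
    (z : Zc (sysOf A C.V (Coh.structureModule X)) 1)
    (hz : ∀ J, (show Γ(X, (rng J).inf C.V) from z.1 J) ∈ p.map (rhoA A ((rng J).inf C.V))) :
    C.κ (Coh.structureModule X) hO 1 z ∈ p • (⊤ : Submodule A (Coh.HH X (Coh.structureModule X) 1)) := by
  let O := Coh.structureModule X
  let φ : p → (O ⟶ (Coh.push (𝟙 X)).obj O) := fun a => Formal.smulMod A O a.1 ≫ idPush O
  have hφ : ∀ (a : p) (s : Finset (Fin C.m)) (x : Γ(O, s.inf C.V)),
      capEquiv (A₀ := A) (A := A) (𝟙 X) C.V O s (secMap (φ a) _ (toSec A O _ x)) = a.1 • toSec A O _ x :=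
    fun a s x => capEquiv_id C.V O s (rhoA A (s.inf C.V) a.1 • x)
  have hspan : z.1 ∈ Submodule.span A (Set.range fun q : Σ _ : p, Cochain (sysOf A C.V O) 1 =>
      Tmap (A₀ := A) (A := A) (𝟙 X) C.V (φ q.1) 1 q.2) := by
    refine cochain_mem_span (𝟙 X) C.V φ 1 z.1 fun J => ?_
    obtain ⟨k, r, g, hg⟩ := Submodule.mem_span_set'.1 (hz J)
    let W := (rng J).inf C.V
    choose a ha hga using fun i => (g i).2
    have e : z.1 J = ∑ i, capEquiv (A₀ := A) (A := A) (𝟙 X) C.V O (rng J)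
        (secMap (φ ⟨a i, ha i⟩) _ (toSec A O _ (r i))) := by
      simp only [hφ]
      refine hg.symm.trans ?_
      refine Eq.trans ?_ (map_sum (toSec A O W) (fun i => (show Γ(O, W) from rhoA A W (a i) • r i)) Finset.univ)
      show (∑ i, r i • (g i : Γ(X, W)) : Γ(X, W)) = ∑ i, rhoA A W (a i) * r i
      exact Finset.sum_congr rfl fun i _ => by rw [hga i]; exact mul_comm _ _
    rw [e]
    refine Submodule.sum_mem _ fun i _ => ?_
    refine @Submodule.subset_span A _ _ (_) (_) _ _ ?_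
    exact ⟨⟨⟨a i, ha i⟩, _⟩, rfl⟩
  have h := cls_mem_span (A₀ := A) (A := A) (𝟙 X) C C.κ C.kills hO 1 hvan
    (G := fun _ : p => O) (fun _ => hO) φ z hspan
  refine Submodule.span_le.2 ?_ h
  rintro _ ⟨⟨a, c⟩, rfl⟩
  have e : Tz (A₀ := A) (A := A) (𝟙 X) C.V (φ a) 1 c = (a.1 • c : Zc (sysOf A C.V O) 1) :=
    Subtype.ext (funext fun J => hφ a (rng J) (c.1 J))
  show C.κ O hO 1 (Tz (A₀ := A) (A := A) (𝟙 X) C.V (φ a) 1 c) ∈ _
  rw [e, map_smul]
  exact Submodule.smul_mem_smul a.2 Submodule.mem_top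

end Identity

section Fibre

variable {A K : Type u} [CommRing A] [Field K] [Algebra A K]
  {X : Scheme.{u}} [X.Over (Spec (CommRingCat.of A))]
  {X' : Scheme.{u}} [X'.Over (Spec (CommRingCat.of K))]
  (u : X' ⟶ X)
  (H : IsPullback u (X' ↘ Spec (CommRingCat.of K)) (X ↘ Spec (CommRingCat.of A))
    (Spec.map (CommRingCat.ofHom (algebraMap A K))))
  (hfrac : ∀ x : K, ∃ a s : A, algebraMap A K s ≠ 0 ∧ x * algebraMap A K s = algebraMap A K a)

include H hfrac in
/-- Functions vanishing on the fibre lie in the prime after inverting. -/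
theorem exists_mul_mem_map {W : X.Opens} (hW : IsAffineOpen W) (t : Γ(X, W)) (ht : u.app W t = 0) :
    ∃ s : A, algebraMap A K s ≠ 0 ∧ rhoA A W s * t ∈ (RingHom.ker (algebraMap A K)).map (rhoA A W) := by
  let p := RingHom.ker (algebraMap A K)
  haveI : p.IsPrime := RingHom.ker_isPrime _
  let J := p.map (rhoA A W)
  let ψ : A →+* Γ(X, W) ⧸ J := (Ideal.Quotient.mk J).comp (rhoA A W)
  let M : Submonoid (Γ(X, W) ⧸ J) := p.primeCompl.map ψ
  let R := Localization M
  let j : A →+* R := (algebraMap (Γ(X, W) ⧸ J) R).comp ψ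
  have hj : ∀ a ∈ p, j a = 0 := fun a ha => by
    show algebraMap (Γ(X, W) ⧸ J) R (Ideal.Quotient.mk J (rhoA A W a)) = 0
    rw [Ideal.Quotient.eq_zero_iff_mem.2 (Ideal.mem_map_of_mem _ ha), map_zero]
  letI : Algebra (A ⧸ p) K := (RingHom.kerLift (algebraMap A K)).toAlgebra
  haveI : FaithfulSMul (A ⧸ p) K :=
    (faithfulSMul_iff_algebraMap_injective _ _).2 (RingHom.kerLift_injective _)
  haveI : IsFractionRing (A ⧸ p) K := IsFractionRing.of_field _ _ fun x => by
    obtain ⟨a, s, hs, e⟩ := hfrac x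
    exact ⟨Ideal.Quotient.mk p a, Ideal.Quotient.mk p s, (eq_div_iff hs).2 e⟩
  have hunit : ∀ y : nonZeroDivisors (A ⧸ p), IsUnit (Ideal.Quotient.lift p j hj y.1) := by
    rintro ⟨y, hy⟩
    obtain ⟨a, rfl⟩ := Ideal.Quotient.mk_surjective y
    rw [Ideal.Quotient.lift_mk]
    exact IsLocalization.map_units R (⟨ψ a, a, fun ha => nonZeroDivisors.ne_zero hy
      (Ideal.Quotient.eq_zero_iff_mem.2 ha), rfl⟩ : M)
  let l : K →+* R := IsLocalization.lift hunit
  have hl : ∀ a : A, l (algebraMap A K a) = j a := fun a =>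
    IsLocalization.lift_eq hunit (Ideal.Quotient.mk p a)
  let i₁ : Γ(X, W) ⟶ CommRingCat.of R :=
    CommRingCat.ofHom ((algebraMap (Γ(X, W) ⧸ J) R).comp (Ideal.Quotient.mk J))
  let i₂ : Γ(Spec (CommRingCat.of K), ⊤) ⟶ CommRingCat.of R :=
    (Scheme.ΓSpecIso (CommRingCat.of K)).hom ≫ CommRingCat.ofHom l
  let hpo := RpushLib.isPushout_sections H (US := ⊤) (isAffineOpen_top _) (UT := ⊤) (isAffineOpen_top _)
    le_top hW le_top
  have w : (X ↘ Spec (CommRingCat.of A)).appLE ⊤ W le_top ≫ i₁ =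
      (Spec.map (CommRingCat.ofHom (algebraMap A K))).appLE ⊤ ⊤ le_top ≫ i₂ := by
    ext c
    obtain ⟨a, rfl⟩ : ∃ a, (Scheme.ΓSpecIso (CommRingCat.of A)).inv a = c :=
      ⟨_, Iso.hom_inv_id_apply _ c⟩
    have e : (Spec.map (CommRingCat.ofHom (algebraMap A K))).appLE ⊤ ⊤ le_top
        ((Scheme.ΓSpecIso (CommRingCat.of A)).inv a) =
        (Scheme.ΓSpecIso (CommRingCat.of K)).inv (algebraMap A K a) := by
      have := congr($(Scheme.ΓSpecIso_inv_naturality (CommRingCat.ofHom (algebraMap A K))) a)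
      rw [Scheme.Hom.appTop, Scheme.Hom.app_eq_appLE] at this
      exact this.symm
    show j a = l ((Scheme.ΓSpecIso (CommRingCat.of K)).hom
      ((Spec.map (CommRingCat.ofHom (algebraMap A K))).appLE ⊤ ⊤ le_top ((Scheme.ΓSpecIso (CommRingCat.of A)).inv a)))
    rw [e, Iso.inv_hom_id_apply, hl]
  have h0 : i₁ t = 0 := by
    have e := congr($(hpo.inl_desc i₁ i₂ w) t)
    rw [← e]
    show hpo.desc i₁ i₂ w (X'.presheaf.map _ (u.app W t)) = 0
    rw [ht, map_zero, map_zero]
  obtain ⟨⟨m, hm⟩, hm0⟩ := (IsLocalization.map_eq_zero_iff M R _).1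
    (show algebraMap (Γ(X, W) ⧸ J) R (Ideal.Quotient.mk J t) = 0 from h0)
  obtain ⟨s, hs, rfl⟩ := hm
  refine ⟨s, fun h => hs h, Ideal.Quotient.eq_zero_iff_mem.1 ?_⟩
  rw [map_mul]
  exact hm0

include H hfrac in
/-- **The fibre.** If `H¹` of the fibre vanishes, every class is in `pH¹` after a multiple. -/
theorem exists_smul_mem_smul [IsProper (X ↘ Spec (CommRingCat.of A))]
    (hvan : ∀ (N : X.Modules), Coh.IsQCoh N → Subsingleton (Coh.HH X N 2))
    (hK : Subsingleton (Coh.HH X' (Coh.structureModule X') 1))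
    (x : Coh.HH X (Coh.structureModule X) 1) :
    ∃ s : A, algebraMap A K s ≠ 0 ∧
      s • x ∈ RingHom.ker (algebraMap A K) • (⊤ : Submodule A (Coh.HH X (Coh.structureModule X) 1)) := by
  classical
  haveI := isAffineHom_of_square u H
  obtain ⟨C, hcov⟩ := exists_setup_cover A X
  haveI : X.IsSeparated := ⟨by
    rw [← terminal.comp_from (X ↘ Spec (CommRingCat.of A))]
    infer_instance⟩
  haveI : X'.IsSeparated := ⟨by rw [← terminal.comp_from u]; infer_instance⟩
  have hcovV : ⨆ i, preV u C.V i = ⊤ := eq_top_iff.2 fun x _ => by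
    obtain ⟨i, hi⟩ := Opens.mem_iSup.1 (hcov.ge (Opens.mem_top (u x)))
    exact Opens.mem_iSup.2 ⟨i, hi⟩
  obtain ⟨κ, -, -, hκk, -⟩ := exists_cls K (preV u C.V) (fun i => (C.affine i).preimage u) hcovV
  haveI hOX : Coh.IsQCoh (Coh.structureModule X) := QCohLib.isQCoh_unit
  haveI hOX' : Coh.IsQCoh (Coh.structureModule X') := QCohLib.isQCoh_unit
  obtain ⟨z, rfl⟩ := C.surj _ hOX 1 x
  let φ := QCohLib.structMap u
  obtain ⟨e', he'⟩ := (hκk _ hOX' 0 (Tz u C.V φ 1 z)).1 (hK.elim _ _)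
  have hclear : ∃ (s : A) (w : Cochain (sysOf A C.V (Coh.structureModule X)) 0),
      algebraMap A K s ≠ 0 ∧ algebraMap A K s • e' = Tmap u C.V φ 0 w := by
    refine Submodule.span_induction (p := fun y _ => ∃ (s : A) (w : Cochain (sysOf A C.V (Coh.structureModule X)) 0),
      algebraMap A K s ≠ 0 ∧ algebraMap A K s • y = Tmap u C.V φ 0 w) ?_ ?_ ?_ ?_
      (cochain_mem_span_structMap u H C.V C.caps 0 e')
    · rintro _ ⟨⟨-, w⟩, rfl⟩
      exact ⟨1, w, by simp, by rw [map_one, one_smul]⟩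
    · exact ⟨1, 0, by simp, by rw [smul_zero, map_zero]⟩
    · rintro y y' - - ⟨s, w, hs, hw⟩ ⟨s', w', hs', hw'⟩
      refine ⟨s * s', s' • w + s • w', by rw [map_mul]; exact mul_ne_zero hs hs', ?_⟩
      rw [map_add, Tmap_smul u H, Tmap_smul u H, ← hw, ← hw', map_mul, smul_add, smul_smul, smul_smul,
        mul_comm (algebraMap A K s')]
    · rintro c y - ⟨s, w, hs, hw⟩
      obtain ⟨a, t, ht, hc⟩ := hfrac c
      refine ⟨t * s, a • w, by rw [map_mul]; exact mul_ne_zero ht hs, ?_⟩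
      rw [Tmap_smul u H, ← hw, map_mul, smul_smul, smul_smul, ← hc]
      congr 1
      ring
  obtain ⟨s, w, hs, hw⟩ := hclear
  let y : Cochain (sysOf A C.V (Coh.structureModule X)) 1 := s • z.1 - dd _ 0 w
  have hy : Tmap (A₀ := A) (A := K) u C.V φ 1 y = 0 := by
    rw [map_sub, Tmap_smul u H, Tmap_dd, ← hw, map_smul, sub_eq_zero]
    exact congrArg (algebraMap A K s • ·) he'.symm
  have hyJ : ∀ J, ∃ t : A, algebraMap A K t ≠ 0 ∧ rhoA A ((rng J).inf C.V) t *
      (show Γ(X, (rng J).inf C.V) from y J) ∈ (RingHom.ker (algebraMap A K)).map (rhoA A ((rng J).inf C.V)) :=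
    fun J => exists_mul_mem_map u H hfrac (C.caps _ (rng_nonempty J)) _ (by
      have h1 := congrFun hy J
      exact (map_eq_zero_iff _ (capEquiv (A₀ := A) (A := K) u C.V (Coh.structureModule X') (rng J)).injective).1 h1)
  choose t ht htm using hyJ
  let T : A := ∏ J, t J
  have hT : algebraMap A K T ≠ 0 := by
    rw [map_prod]; exact Finset.prod_ne_zero_iff.2 fun J _ => ht J
  have hycl : dd _ 1 y = 0 := by
    rw [map_sub, map_smul, LinearMap.mem_ker.1 z.2, smul_zero, dd_dd, sub_zero]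
  let z₂ : Zc (sysOf A C.V (Coh.structureModule X)) 1 :=
    ⟨T • y, LinearMap.mem_ker.2 (by rw [map_smul, hycl, smul_zero])⟩
  have h₂ := cls_mem_smul C (RingHom.ker (algebraMap A K)) hOX hvan z₂ fun J => by
    obtain ⟨c, hc⟩ : t J ∣ T := Finset.dvd_prod_of_mem t (Finset.mem_univ J)
    show rhoA A ((rng J).inf C.V) T * (show Γ(X, (rng J).inf C.V) from y J) ∈ _
    rw [hc, map_mul, mul_right_comm]
    exact Ideal.mul_mem_right _ _ (htm J)
  refine ⟨T * s, by rw [map_mul]; exact mul_ne_zero hT hs, ?_⟩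
  let b : Zc (sysOf A C.V (Coh.structureModule X)) 1 :=
    ⟨dd _ 0 (T • w), LinearMap.mem_ker.2 (dd_dd _ _)⟩
  have hb : C.κ _ hOX 1 b = 0 := (C.kills _ hOX 0 b).2 ⟨T • w, rfl⟩
  have e : (T * s) • z = z₂ + b := Subtype.ext (by
    show (T * s) • z.1 = T • (s • z.1 - dd _ 0 w) + dd _ 0 (T • w)
    rw [map_smul, smul_sub, sub_add_cancel, mul_smul])
  rw [← map_smul, e, map_add, hb, add_zero]
  exact h₂

include H hfrac in
/-- **Killing `H¹` near the prime.** -/
theorem exists_smul_eq_zero [IsProper (X ↘ Spec (CommRingCat.of A))]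
    [Module.Finite A (Coh.HH X (Coh.structureModule X) 1)]
    (hvan : ∀ (N : X.Modules), Coh.IsQCoh N → Subsingleton (Coh.HH X N 2))
    (hK : Subsingleton (Coh.HH X' (Coh.structureModule X') 1)) :
    ∃ r : A, algebraMap A K r ≠ 0 ∧ ∀ x : Coh.HH X (Coh.structureModule X) 1, r • x = 0 := by
  classical
  let M := Coh.HH X (Coh.structureModule X) 1
  let p := RingHom.ker (algebraMap A K)
  obtain ⟨n, g, hg⟩ := Module.Finite.exists_fin (R := A) (M := M)
  choose s hs hsm using fun i => exists_smul_mem_smul u H hfrac hvan hK (g i)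
  let S : A := ∏ i, s i
  have hS : algebraMap A K S ≠ 0 := by
    rw [map_prod]; exact Finset.prod_ne_zero_iff.2 fun i _ => hs i
  have hrange : LinearMap.range (algebraMap A (Module.End A M) S) ≤ p • ⊤ := by
    conv_lhs => rw [LinearMap.range_eq_map, ← hg, Submodule.map_span]
    rw [Submodule.span_le]
    rintro _ ⟨_, ⟨i, rfl⟩, rfl⟩
    obtain ⟨c, hc⟩ : s i ∣ S := Finset.dvd_prod_of_mem s (Finset.mem_univ i)
    show S • g i ∈ p • (⊤ : Submodule A M)
    rw [hc, mul_comm, mul_smul]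
    exact Submodule.smul_mem _ c (hsm i)
  obtain ⟨P, hP, -, hcoef, hev⟩ :=
    LinearMap.exists_monic_and_natDegree_eq_and_coeff_mem_pow_and_aeval_eq_zero A
      (algebraMap A (Module.End A M) S) p hrange
  rw [Polynomial.aeval_algebraMap_apply_eq_algebraMap_eval] at hev
  refine ⟨P.eval S, ?_, fun x => LinearMap.congr_fun hev x⟩
  rw [Polynomial.eval_eq_sum_range, map_sum, Finset.sum_range_succ, Finset.sum_eq_zero, zero_add,
    hP.coeff_natDegree, one_mul, map_pow]
  · exact pow_ne_zero _ hS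
  · intro k hk
    have hk' : P.coeff k ∈ p :=
      Ideal.pow_le_self (Nat.sub_ne_zero_of_lt (Finset.mem_range.1 hk)) (hcoef k)
    rw [map_mul, show algebraMap A K (P.coeff k) = 0 from hk', zero_mul]

end Fibre

end FibVanLib
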