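import Groth.Agent.FibVanLib.GlobGen
import Groth.Agent.FibVanLib.H1

/-!
# `H¹` of globally generated modules when `H¹(O)` and `H²` vanish
-/

set_option autoImplicit false

universe u

open CategoryTheory CategoryTheory.Limits AlgebraicGeometry TopologicalSpace Opposite
open GradedCechLib (Sys Cochain rng dd rng_nonempty)
open FormalLib

namespace FibVanLib

/-- Globally generated modules have no `H¹` when `H¹(O)` and `H²` vanish. -/
theorem subsingleton_H1_of_globGen (A : Type u) [CommRing A] {X : Scheme.{u}} [X.Over (Spec (CommRingCat.of A))]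
    [IsProper (X ↘ Spec (CommRingCat.of A))]
    (hvan : ∀ (N : X.Modules), Coh.IsQCoh N → Subsingleton (Coh.HH X N 2))
    (h1 : Subsingleton (Coh.HH X (Coh.structureModule X) 1))
    (F : X.Modules) [Coh.IsQCoh F] {ι : Type u}
    (e : (∐ fun _ : ι => Coh.structureModule X) ⟶ F) [Epi e] : Subsingleton (Coh.HH X F 1) := by
  classical
  haveI hO : Coh.IsQCoh (Coh.structureModule X) := QCohLib.isQCoh_unit
  obtain ⟨C, -⟩ := exists_setup_cover A X
  refine subsingleton_of_forall_eq 0 fun x => ?_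
  obtain ⟨z, rfl⟩ := C.surj F inferInstance 1 x
  let φ : ι → (Coh.structureModule X ⟶ (Coh.push (𝟙 X)).obj F) := fun i =>
    (Sigma.ι (fun _ : ι => Coh.structureModule X) i ≫ e) ≫ idPush F
  have hspan : z.1 ∈ Submodule.span A (Set.range fun q : Σ _ : ι,
      Cochain (sysOf A C.V (Coh.structureModule X)) 1 =>
      Tmap (A₀ := A) (A := A) (𝟙 X) C.V (φ q.1) 1 q.2) := by
    refine cochain_mem_span (𝟙 X) C.V φ 1 z.1 fun J => ?_
    obtain ⟨t, c, hc⟩ := exists_eq_sum_of_epi e (C.caps _ (rng_nonempty J))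
      (show Γ(F, (rng J).inf C.V) from z.1 J)
    have : z.1 J = ∑ i ∈ t, capEquiv (A₀ := A) (A := A) (𝟙 X) C.V F (rng J)
        (secMap (φ i) _ (toSec A (Coh.structureModule X) _ (c i))) := by
      refine hc.trans (Eq.trans (Eq.symm (map_sum (toSec A F ((rng J).inf C.V))
        (fun i => (Sigma.ι (fun _ : ι => Coh.structureModule X) i ≫ e).app _ (c i)) t))
        (Finset.sum_congr rfl fun i _ => (capEquiv_id C.V F (rng J) _).symm))
    rw [this]
    refine Submodule.sum_mem _ fun i _ => ?_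
    refine @Submodule.subset_span A _ _ (_) (_) _ _ ?_
    exact ⟨⟨i, _⟩, rfl⟩
  have h := cls_mem_span (A₀ := A) (A := A) (𝟙 X) C C.κ C.kills inferInstance 1 hvan
    (G := fun _ : ι => Coh.structureModule X) (fun _ => hO) φ z hspan
  refine (Submodule.mem_bot _).1 (Submodule.span_le.2 ?_ h)
  rintro _ ⟨⟨i, c⟩, rfl⟩
  exact (Submodule.mem_bot _).2
    (cls_Tz_eq_zero (𝟙 X) C C.κ C.kills inferInstance hO (φ i) 1 c (h1.elim _ _))

end FibVanLib
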