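import Groth.Agent.FibVanLib.H0Surj

/-!
# Surjectivity of `O → f_* O` is stable under base change when `H¹` of the fibres vanishes
-/

set_option autoImplicit false
set_option maxHeartbeats 800000

universe u

open CategoryTheory CategoryTheory.Limits AlgebraicGeometry TopologicalSpace Opposite
open GradedCechLib (Sys Cochain rng dd rng_nonempty)
open FormalLib

namespace FibVanLib

variable {A₀ A : Type u} [CommRing A₀] [CommRing A] [Algebra A₀ A]
  {Y : Scheme.{u}} [Y.Over (Spec (CommRingCat.of A₀))] [IsProper (Y ↘ Spec (CommRingCat.of A₀))]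
  {X : Scheme.{u}} [X.Over (Spec (CommRingCat.of A))]
  (u : X ⟶ Y)
  (H : IsPullback u (X ↘ Spec (CommRingCat.of A)) (Y ↘ Spec (CommRingCat.of A₀))
    (Spec.map (CommRingCat.ofHom (algebraMap A₀ A))))

include H in
/-- Global functions of the base change come from the base. -/
theorem surjective_toGlobal_baseChange
    (hvan : ∀ (N : Y.Modules), Coh.IsQCoh N → Subsingleton (Coh.HH Y N 2))
    (hH1 : Subsingleton (Coh.HH Y (Coh.structureModule Y) 1))
    (hs : Function.Surjective (Coh.toGlobal (Y ↘ Spec (CommRingCat.of A₀)))) :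
    Function.Surjective (Coh.toGlobal (X ↘ Spec (CommRingCat.of A))) := by
  classical
  intro r
  obtain ⟨C, hcov⟩ := exists_setup_cover A₀ Y
  let O := Coh.structureModule Y
  let O' := Coh.structureModule X
  let gl : Γ(X, ⊤) → Cochain (sysOf A (preV u C.V) O') 0 := fun x J =>
    toSec A O' _ (X.presheaf.map (homOfLE (le_top : (rng J).inf (preV u C.V) ≤ ⊤)).op x)
  have hgl : dd _ 0 (gl r) = 0 := by
    funext J
    rw [GradedCechLib.dd_apply, Fin.sum_univ_two]
    simp only [Fin.val_zero, pow_zero, one_smul, Fin.val_one, pow_one, neg_smul, Pi.zero_apply]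
    rw [add_neg_eq_zero]
    refine (QCohLib.map_map' O' _ (homOfLE le_top) r).trans (Eq.symm ?_)
    exact QCohLib.map_map' O' _ (homOfLE le_top) r
  have hsmul : ∀ a : A, gl (Coh.toGlobal (X ↘ Spec (CommRingCat.of A)) a) = a • gl 1 := fun a => funext fun J => by
    show (X.presheaf.map _ _ : Γ(X, _)) = rhoA A _ a * X.presheaf.map _ 1
    exact ((congrArg (rhoA A _ a * ·) (map_one _)).trans (mul_one _)).symm
  have hzero : ∀ c : Zc (sysOf A₀ C.V O) 0, ∃ a : A, Tmap u C.V (QCohLib.structMap u) 0 c.1 =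
      gl (Coh.toGlobal (X ↘ Spec (CommRingCat.of A)) a) := by
    intro c
    let K1 : Fin C.m → Fin 1 → Fin C.m := fun i _ => i
    have hle : ∀ i, C.V i ≤ (rng (K1 i)).inf C.V := fun i => Finset.le_inf fun x hx => by
      obtain ⟨a, -, rfl⟩ := Finset.mem_image.1 hx
      exact le_rfl
    let sf : ∀ i, Γ(O, C.V i) := fun i =>
      O.presheaf.map (homOfLE (hle i)).op ((toSec A₀ O _).symm (c.1 (K1 i)))
    have hcomp : ∀ i j, O.presheaf.map (homOfLE (inf_le_left : C.V i ⊓ C.V j ≤ C.V i)).op (sf i) =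
        O.presheaf.map (homOfLE (inf_le_right : C.V i ⊓ C.V j ≤ C.V j)).op (sf j) := by
      intro i j
      have e := congr_fun (LinearMap.mem_ker.1 c.2) ![j, i]
      rw [GradedCechLib.dd_apply, Fin.sum_univ_two] at e
      simp only [Fin.val_zero, pow_zero, one_smul, Fin.val_one, pow_one, neg_smul, Pi.zero_apply] at e
      rw [add_neg_eq_zero] at e
      have e0 : (![j, i] : Fin 2 → Fin C.m) ∘ (0 : Fin 2).succAbove = K1 i := by
        funext a; fin_cases a; rfl
      have e1 : (![j, i] : Fin 2 → Fin C.m) ∘ (1 : Fin 2).succAbove = K1 j := by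
        funext a; fin_cases a; rfl
      have hW : C.V i ⊓ C.V j ≤ (rng ![j, i]).inf C.V := Finset.le_inf fun x hx => by
        obtain ⟨a, -, rfl⟩ := Finset.mem_image.1 hx
        fin_cases a
        · exact inf_le_right
        · exact inf_le_left
      rw [GradedCechLib.res_congr c.1 e0 _ (Finset.image_subset_iff.2 fun a _ =>
          Finset.mem_image.2 ⟨1, Finset.mem_univ _, rfl⟩),
        GradedCechLib.res_congr c.1 e1 _ (Finset.image_subset_iff.2 fun a _ =>
          Finset.mem_image.2 ⟨0, Finset.mem_univ _, rfl⟩)] at e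
      have e' := congr_arg (O.presheaf.map (homOfLE hW).op) e
      refine (QCohLib.map_map' O _ _ _).trans ((QCohLib.map_map' O (homOfLE hW) _ _).symm.trans
        (e'.trans ((QCohLib.map_map' O (homOfLE hW) _ _).trans (Eq.symm ?_))))
      exact QCohLib.map_map' O _ _ _
    obtain ⟨g, hg, -⟩ := TopCat.Sheaf.existsUnique_gluing' (F := ⟨O.presheaf, O.isSheaf⟩) C.V ⊤
      (fun i => homOfLE le_top) hcov.ge sf hcomp
    obtain ⟨a₀, ha₀⟩ := hs g
    refine ⟨algebraMap A₀ A a₀, funext fun J => ?_⟩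
    have hJ : J = K1 (J 0) := funext fun x => congrArg J (Fin.fin_one_eq_zero x)
    rw [hJ]
    generalize J 0 = i
    have hle' : (rng (K1 i)).inf C.V ≤ C.V i :=
      Finset.inf_le (Finset.mem_image.2 ⟨0, Finset.mem_univ _, rfl⟩)
    have hc : c.1 (K1 i) = toSec A₀ O _ (rhoA A₀ ((rng (K1 i)).inf C.V) a₀) := by
      have e := congr_arg (O.presheaf.map (homOfLE hle').op) (hg i)
      refine Eq.trans ?_ (e.symm.trans ?_)
      · exact ((QCohLib.map_map' O (homOfLE hle') (homOfLE (hle i)) (c.1 (K1 i))).trans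
          (ConcreteCategory.congr_hom (O.presheaf.map_id _) (c.1 (K1 i)))).symm
      · refine (QCohLib.map_map' O (homOfLE hle') (homOfLE le_top) g).trans ?_
        exact (congrArg (O.presheaf.map (homOfLE (le_top : (rng (K1 i)).inf C.V ≤ ⊤)).op) ha₀).symm
    show capEquiv (A₀ := A₀) (A := A) u C.V O' (rng (K1 i)) (secMap (QCohLib.structMap u) _ (c.1 (K1 i))) = _
    rw [hc]
    show X.presheaf.map _ (u.app _ (rhoA A₀ _ a₀)) = rhoA A _ (algebraMap A₀ A a₀)
    rw [← app_rhoA u H.w ((rng (K1 i)).inf C.V) _ (inf_preV u C.V (rng (K1 i))).le a₀]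
    rfl
  obtain ⟨k, b, g, hg⟩ := Submodule.mem_span_set'.1 (exists_eq_sum_cocycles u H C hvan hH1 (gl r) hgl)
  choose c hc using fun i => (g i).2
  choose a ha using fun i => hzero (c i)
  refine ⟨∑ i, b i * a i, ?_⟩
  have e : gl r = gl (Coh.toGlobal (X ↘ Spec (CommRingCat.of A)) (∑ i, b i * a i)) := by
    rw [← hg, hsmul, Finset.sum_smul]
    refine Finset.sum_congr rfl fun i _ => ?_
    rw [mul_smul, ← hsmul, ← ha i, ← hc i]
  refine TopCat.Sheaf.eq_of_locally_eq' (F := ⟨O'.presheaf, O'.isSheaf⟩) (fun i => u ⁻¹ᵁ C.V i) ⊤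
    (fun i => homOfLE le_top) (fun x _ => ?_) _ _ fun i => ?_
  · obtain ⟨i, hi⟩ := Opens.mem_iSup.1 (hcov.ge (Opens.mem_top (u x)))
    exact Opens.mem_iSup.2 ⟨i, hi⟩
  · have hle : u ⁻¹ᵁ C.V i ≤ (rng fun _ : Fin 1 => i).inf (preV u C.V) := Finset.le_inf fun x hx => by
      obtain ⟨a, -, rfl⟩ := Finset.mem_image.1 hx
      exact le_rfl
    have e' := congr_arg (O'.presheaf.map (homOfLE hle).op) (congr_fun e fun _ => i)
    exact ((QCohLib.map_map' O' (homOfLE hle) (homOfLE le_top) r).symm.trans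
      (e'.trans (QCohLib.map_map' O' (homOfLE hle) (homOfLE le_top) _))).symm

/-- The theorem over an affine piece of the base. -/
theorem app_surjective_baseChange_aux {X Y : Scheme.{u}} (f : X ⟶ Y) [IsProper f]
    (hdim : ∀ y : Y, topologicalKrullDim ↥(f.fiber y) ≤ ((1 : ℕ) : WithBot ℕ∞))
    (hH1 : ∀ y : Y, Subsingleton (Coh.HH (f.fiber y) (Coh.structureModule (f.fiber y)) 1))
    {X' Y' : Scheme.{u}} {f' : X' ⟶ Y'} {g' : X' ⟶ X} {g : Y' ⟶ Y} (hc : IsPullback g' f' f g)
    {U : Y.Opens} (hU : IsAffineOpen U) (hs : Function.Surjective (f.app U))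
    {U' : Y'.Opens} (hU' : IsAffineOpen U') (hle : U' ≤ g ⁻¹ᵁ U) : Function.Surjective (f'.app U') := by
  let A₀ : Type u := Γ(Y, U)
  let A : Type u := Γ(Y', U')
  let Z : Scheme.{u} := (f ⁻¹ᵁ U : Scheme.{u})
  let Z' : Scheme.{u} := (f' ⁻¹ᵁ U' : Scheme.{u})
  letI : Z.Over (Spec (CommRingCat.of A₀)) := ⟨RpushLib.overW f hU⟩
  letI : Z'.Over (Spec (CommRingCat.of A)) := ⟨RpushLib.overW f' hU'⟩
  let q : Z ⟶ Spec (CommRingCat.of A₀) := Z ↘ Spec (CommRingCat.of A₀)
  have sq : IsPullback (f ⁻¹ᵁ U).ι q f hU.fromSpec := isPullback_overAff f hU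
  haveI : IsProper q := MorphismProperty.of_isPullback sq inferInstance
  letI : Algebra A₀ A := (g.appLE U U' hle).hom.toAlgebra
  have hg : Spec.map (CommRingCat.ofHom (algebraMap A₀ A)) ≫ hU.fromSpec = hU'.fromSpec ≫ g :=
    IsAffineOpen.SpecMap_appLE_fromSpec g hU hU' hle
  obtain ⟨v, -, hv⟩ := exists_square sq (P := Z') (o := (f' ⁻¹ᵁ U').ι ≫ g')
    (p := Z' ↘ Spec (CommRingCat.of A)) (Spec.map (CommRingCat.ofHom (algebraMap A₀ A))) (by
      rw [hg]; exact (isPullback_overAff f' hU').paste_horiz hc)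
  have hdq : ∀ t : Spec (CommRingCat.of A₀), topologicalKrullDim ↥(q.fiber t) ≤ ((1 : ℕ) : WithBot ℕ∞) := fun t => by
    rw [FibDimLib.topologicalKrullDim_fiber_baseChange sq t]
    exact hdim _
  have hq1 : ∀ t : Spec (CommRingCat.of A₀), Subsingleton (Coh.HH (q.fiber t) (Coh.structureModule (q.fiber t)) 1) := fun t => by
    have h := isPullback_fiberToSpecResidueField_of_isPullback sq t
    have hi := h.isIso_fst_of_isIso
    exact subsingleton_HH_structure_of_iso (@asIso _ _ _ _ _ hi).symm (hH1 _)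
  have hsZ : Function.Surjective (Coh.toGlobal q) := fun x => by
    obtain ⟨a, ha⟩ := hs ((f ⁻¹ᵁ U).topIso.hom x)
    exact ⟨a, (RpushLib.toGlobal_overW f hU a).trans (by rw [ha, Iso.hom_inv_id_apply])⟩
  have h := surjective_toGlobal_baseChange v hv
    (fun N hN => subsingleton_HH_affine q 1 hdq N 2 one_lt_two)
    (subsingleton_H1_structure q hdq hq1) hsZ
  intro x
  obtain ⟨a, ha⟩ := h ((f' ⁻¹ᵁ U').topIso.inv x)
  refine ⟨a, ?_⟩
  have e := (RpushLib.toGlobal_overW f' hU' a).symm.trans ha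
  have e' := congrArg (f' ⁻¹ᵁ U').topIso.hom e
  rwa [Iso.inv_hom_id_apply, Iso.inv_hom_id_apply] at e'

/-- **Stability under base change.** -/
theorem app_surjective_baseChange {X Y : Scheme.{u}} (f : X ⟶ Y) [IsProper f]
    (hdim : ∀ y : Y, topologicalKrullDim ↥(f.fiber y) ≤ 1)
    (hH1 : ∀ y : Y, Subsingleton (Coh.HH (f.fiber y) (Coh.structureModule (f.fiber y)) 1))
    (hsurj : ∀ U : Y.Opens, IsAffineOpen U → Function.Surjective (f.app U))
    {X' Y' : Scheme.{u}} {f' : X' ⟶ Y'} {g' : X' ⟶ X} {g : Y' ⟶ Y} (hc : IsPullback g' f' f g)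
    {U' : Y'.Opens} (hU' : IsAffineOpen U') : Function.Surjective (f'.app U') := by
  haveI : IsProper f' := MorphismProperty.of_isPullback hc inferInstance
  haveI : Coh.IsQCoh (Coh.structureModule Y') := QCohLib.isQCoh_unit
  haveI : Coh.IsQCoh (Coh.structureModule X') := QCohLib.isQCoh_unit
  haveI : Coh.IsQCoh ((Scheme.Modules.pushforward f').obj (Coh.structureModule X')) :=
    QCohLib.isQCoh_pushforward f' _
  haveI : Epi (QCohLib.structMap f') := QCohLib.epi_of_surjective_on_affines _ fun V s p hp => by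
    obtain ⟨U, hU, hpU⟩ := QCohLib.exists_affine_nhd (g p)
    obtain ⟨W, hW, hpW, hWle⟩ := exists_isAffineOpen_mem_and_subset (show p ∈ V ⊓ g ⁻¹ᵁ U from ⟨hp, hpU⟩)
    obtain ⟨t, ht⟩ := app_surjective_baseChange_aux f hdim hH1 hc hU (hsurj U hU) hW
      (fun x hx => (hWle hx).2)
      (((Scheme.Modules.pushforward f').obj (Coh.structureModule X')).presheaf.map
        (homOfLE (fun x hx => (hWle hx).1 : W ≤ V)).op s)
    exact ⟨W, fun x hx => (hWle hx).1, hpW, t, ht⟩
  let S : ShortComplex Y'.Modules := ShortComplex.mk _ _ (kernel.condition (QCohLib.structMap f'))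
  have hS : S.ShortExact :=
    { exact := ShortComplex.exact_of_f_is_kernel _ (kernelIsKernel _)
      mono_f := inferInstanceAs (Mono (kernel.ι _))
      epi_g := inferInstanceAs (Epi (QCohLib.structMap f')) }
  haveI : Coh.IsQCoh S.X₁ := QCohLib.isQCoh_kernel _
  exact QCohLib.app_surjective_of_affine hS hU'

end FibVanLib
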