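import Groth.Agent.FibVanLib.H1Main
import Mathlib.LinearAlgebra.TensorProduct.RightExactness
import Mathlib.LinearAlgebra.DirectSum.Finsupp

/-!
# Global functions of a base change, when `H¹` and `H²` vanish
-/

set_option autoImplicit false
set_option maxHeartbeats 800000

universe u

open CategoryTheory CategoryTheory.Limits AlgebraicGeometry TopologicalSpace Opposite TensorProduct
open GradedCechLib (Sys Cochain rng dd rng_nonempty)
open FormalLib

namespace FibVanLib

/-- A vanishing tensor comes from relations. -/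
theorem exists_relations {A B : Type u} [CommRing A] [CommRing B] [Algebra A B] {M : Type u} [AddCommGroup M]
    [Module A M] {k : ℕ} (b : Fin k → B) (x : Fin k → M) (h : ∑ i, b i ⊗ₜ[A] x i = 0) :
    ∃ (n : ℕ) (K : Fin n → (Fin k ⊕ B →₀ A)) (y : Fin n → M),
      (∀ l, Finsupp.linearCombination A (Sum.elim b id) (K l) = 0) ∧
        ∀ s, (Sum.elim x 0 : Fin k ⊕ B → M) s = ∑ l, K l s • y l := by
  classical
  let q : (Fin k ⊕ B →₀ A) →ₗ[A] B := Finsupp.linearCombination A (Sum.elim b id)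
  have hq : Function.Surjective q := fun β => ⟨Finsupp.single (Sum.inr β) 1, by simp [q]⟩
  let e : (Fin k ⊕ B →₀ A) ⊗[A] M := ∑ i, Finsupp.single (Sum.inl i) 1 ⊗ₜ x i
  have he : q.rTensor M e = 0 := by
    rw [map_sum, ← h]
    exact Finset.sum_congr rfl fun i _ => by simp [q]
  have hex : Function.Exact (LinearMap.ker q).subtype q := LinearMap.exact_subtype_ker_map q
  obtain ⟨w, hw⟩ := ((rTensor_exact (R := A) (M := LinearMap.ker q) (N := Fin k ⊕ B →₀ A) (P := B) (f := (LinearMap.ker q).subtype) (g := q) M hex hq) e).1 he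
  obtain ⟨S, hS⟩ := TensorProduct.exists_finset w
  obtain ⟨φ⟩ : Nonempty (Fin S.card ≃ S) := ⟨S.equivFin.symm⟩
  refine ⟨S.card, fun l => ((φ l).1.1 : Fin k ⊕ B →₀ A), fun l => (φ l).1.2,
    fun l => LinearMap.mem_ker.1 (φ l).1.1.2, fun s => ?_⟩
  have h2 := congr_arg (fun t => TensorProduct.finsuppScalarLeft A M (Fin k ⊕ B) t s) hw
  simp only [hS, map_sum, Finsupp.finsetSum_apply, LinearMap.rTensor_tmul, e,
    TensorProduct.finsuppScalarLeft_apply_tmul_apply, Submodule.subtype_apply] at h2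
  rw [φ.sum_comp (fun p : S => (p.1.1 : Fin k ⊕ B →₀ A) s • p.1.2), Finset.sum_coe_sort S
    (fun p => (p.1 : Fin k ⊕ B →₀ A) s • p.2), h2]
  cases s with
  | inl i =>
    rw [Finset.sum_eq_single i (fun j _ hj => by
      rw [Finsupp.single_eq_of_ne (by simpa using Ne.symm hj), zero_smul]) (fun hi => absurd (Finset.mem_univ i) hi)]
    simp
  | inr β => exact (Finset.sum_eq_zero fun j _ => by simp).symm

variable {A₀ A : Type u} [CommRing A₀] [CommRing A] [Algebra A₀ A]
  {Y : Scheme.{u}} [Y.Over (Spec (CommRingCat.of A₀))]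
  {X : Scheme.{u}} [X.Over (Spec (CommRingCat.of A))]
  (u : X ⟶ Y)
  (H : IsPullback u (X ↘ Spec (CommRingCat.of A)) (Y ↘ Spec (CommRingCat.of A₀))
    (Spec.map (CommRingCat.ofHom (algebraMap A₀ A))))

include H in
/-- Relations behind a vanishing combination on the base change of an affine open. -/
theorem exists_relations_cap {W : Y.Opens} (hW : IsAffineOpen W) {k : ℕ} (b : Fin k → A) (x : Fin k → Γ(Y, W))
    (h : ∑ i, rhoA A (u ⁻¹ᵁ W) (b i) * u.app W (x i) = 0) :
    ∃ (n : ℕ) (K : Fin n → (Fin k ⊕ A →₀ A₀)) (y : Fin n → Γ(Y, W)),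
      (∀ l, Finsupp.linearCombination A₀ (Sum.elim b id) (K l) = 0) ∧
        ∀ s, (Sum.elim x 0 : Fin k ⊕ A → Γ(Y, W)) s = ∑ l, rhoA A₀ W (K l s) * y l := by
  letI : Algebra A₀ Γ(Y, W) := (rhoA A₀ W).toAlgebra
  have hpo := RpushLib.isPushout_affBase H hW (U := u ⁻¹ᵁ W) rfl
  let i₁ : Γ(Y, W) ⟶ CommRingCat.of (A ⊗[A₀] Γ(Y, W)) :=
    CommRingCat.ofHom (Algebra.TensorProduct.includeRight (R := A₀) (A := A) (B := Γ(Y, W))).toRingHom
  let i₂ : CommRingCat.of A ⟶ CommRingCat.of (A ⊗[A₀] Γ(Y, W)) :=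
    CommRingCat.ofHom (Algebra.TensorProduct.includeLeftRingHom (R := A₀) (A := A) (B := Γ(Y, W)))
  have w : CommRingCat.ofHom ((Y.presheaf.map (homOfLE (le_top : W ≤ ⊤)).op).hom.comp
      (Coh.toGlobal (Y ↘ Spec (CommRingCat.of A₀)))) ≫ i₁ = CommRingCat.ofHom (algebraMap A₀ A) ≫ i₂ := by
    ext a
    exact (Algebra.TensorProduct.tmul_one_eq_one_tmul (A := A) (B := Γ(Y, W)) a).symm
  obtain ⟨n, K, y, hK, hy⟩ := exists_relations b x (by
    have e := congr_arg (hpo.desc i₁ i₂ w) h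
    rw [map_sum, map_zero] at e
    refine Eq.trans (Finset.sum_congr rfl fun i _ => ?_) e
    rw [map_mul, Scheme.Hom.app_eq_appLE]
    erw [congr($(hpo.inr_desc i₁ i₂ w) (b i)), congr($(hpo.inl_desc i₁ i₂ w) (x i))]
    show _ = (b i ⊗ₜ[A₀] (1 : Γ(Y, W))) * ((1 : A) ⊗ₜ[A₀] x i)
    rw [Algebra.TensorProduct.tmul_mul_tmul, mul_one, one_mul])
  exact ⟨n, K, y, hK, hy⟩

include H in
/-- Cocycles of degree zero on the base change are combinations of cocycles. -/
theorem exists_eq_sum_cocycles (C : Setup A₀ Y)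
    (hvan : ∀ (N : Y.Modules), Coh.IsQCoh N → Subsingleton (Coh.HH Y N 2))
    (hH1 : Subsingleton (Coh.HH Y (Coh.structureModule Y) 1))
    (z : Cochain (sysOf A (preV u C.V) (Coh.structureModule X)) 0) (hz : dd _ 0 z = 0) :
    z ∈ Submodule.span A (Set.range fun c : Zc (sysOf A₀ C.V (Coh.structureModule Y)) 0 =>
      Tmap u C.V (QCohLib.structMap u) 0 c.1) := by
  classical
  let O := Coh.structureModule Y
  haveI hO : Coh.IsQCoh O := QCohLib.isQCoh_unit
  let T := fun q => Tmap (A₀ := A₀) (A := A) u C.V (QCohLib.structMap u) q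
  obtain ⟨k, b, g, hg⟩ := Submodule.mem_span_set'.1 (cochain_mem_span_structMap u H C.V C.caps 0 z)
  choose c₀ hc₀ using fun i => (g i).2
  let c : Fin k → Cochain (sysOf A₀ C.V O) 0 := fun i => (c₀ i).2
  have hzc : z = ∑ i, b i • T 0 (c i) := by
    rw [← hg]
    exact Finset.sum_congr rfl fun i _ => by rw [← hc₀ i]
  -- relations on the caps
  have hJ : ∀ J : Fin 2 → Fin C.m, ∃ (n : ℕ) (K : Fin n → (Fin k ⊕ A →₀ A₀)) (y : Fin n → Γ(Y, (rng J).inf C.V)),
      (∀ l, Finsupp.linearCombination A₀ (Sum.elim b id) (K l) = 0) ∧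
        ∀ s, (Sum.elim (fun i => dd (sysOf A₀ C.V O) 0 (c i) J) 0 : Fin k ⊕ A → Γ(Y, (rng J).inf C.V)) s =
          ∑ l, rhoA A₀ ((rng J).inf C.V) (K l s) * y l := by
    intro J
    refine exists_relations_cap u H (C.caps _ (rng_nonempty J)) b (fun i => dd (sysOf A₀ C.V O) 0 (c i) J) ?_
    let W := (rng J).inf C.V
    let N := (Coh.push u).obj (Coh.structureModule X)
    let term : Fin k → Γ(N, W) := fun i =>
      (show Γ(X, u ⁻¹ᵁ W) from rhoA A (u ⁻¹ᵁ W) (b i) * u.app W (dd (sysOf A₀ C.V O) 0 (c i) J))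
    have h0 : ∑ i, b i • T 1 (dd _ 0 (c i)) J = 0 := by
      have e := congr_fun (hz : dd _ 0 z = 0) J
      rw [hzc, map_sum, Finset.sum_apply] at e
      refine Eq.trans (Finset.sum_congr rfl fun i _ => ?_) e
      rw [map_smul]
      exact congrArg (b i • ·) (congr_fun (Tmap_dd u C.V _ 0 (c i)) J)
    have h1 : capEquiv (A₀ := A₀) (A := A) u C.V (Coh.structureModule X) (rng J) (toSec A₀ N W (∑ i, term i)) = 0 := by
      rw [map_sum, map_sum]
      refine Eq.trans ?_ h0
      exact Finset.sum_congr rfl fun i _ => capEquiv_secMap_push u C.V (Coh.structureModule X) (rng J) (b i)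
        (secMap (QCohLib.structMap u) _ (toSec A₀ O W (dd (sysOf A₀ C.V O) 0 (c i) J)))
    exact (toSec A₀ N W).injective
      (((map_eq_zero_iff _ (capEquiv (A₀ := A₀) (A := A) u C.V (Coh.structureModule X) (rng J)).injective).1 h1).trans
        (map_zero _).symm)
  choose n K y hK hy using hJ
  -- finitely many indices
  let t : Finset A := Finset.univ.biUnion fun p : Σ J, Fin (n J) => (K p.1 p.2).support.preimage Sum.inr
    Sum.inr_injective.injOn
  let emb : Fin k ⊕ t ↪ Fin k ⊕ A := ⟨Sum.map id Subtype.val, Sum.map_injective.2 ⟨Function.injective_id, Subtype.val_injective⟩⟩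
  let bh : Fin k ⊕ t → A := fun s => Sum.elim b id (emb s)
  let R := Σ J : Fin 2 → Fin C.m, Fin (n J)
  let M : R → Fin k ⊕ t → A₀ := fun l s => K l.1 l.2 (emb s)
  have hM : ∀ l, ∑ s, algebraMap A₀ A (M l s) * bh s = 0 := by
    intro l
    have e := hK l.1 l.2
    rw [Finsupp.linearCombination_apply] at e
    have hs : (K l.1 l.2).support ⊆ Finset.univ.map emb := by
      intro s hs
      rcases s with i | β
      · exact Finset.mem_map.2 ⟨Sum.inl i, Finset.mem_univ _, rfl⟩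
      · exact Finset.mem_map.2 ⟨Sum.inr ⟨β, Finset.mem_biUnion.2 ⟨l, Finset.mem_univ _,
          Finset.mem_preimage.2 hs⟩⟩, Finset.mem_univ _, rfl⟩
    rw [Finsupp.sum_of_support_subset _ hs (fun i a => a • Sum.elim b id i) (fun _ _ => zero_smul _ _),
      Finset.sum_map] at e
    refine Eq.trans (Finset.sum_congr rfl fun s _ => ?_) e
    exact (Algebra.smul_def _ _).symm
  let ch : Fin k ⊕ t → Cochain (sysOf A₀ C.V O) 0 := fun s => Sum.elim c 0 s
  let Y₁ : R → Cochain (sysOf A₀ C.V O) 1 := fun l => Pi.single l.1 (toSec A₀ O _ (y l.1 l.2))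
  have hch : ∀ s, dd _ 0 (ch s) = ∑ l, M l s • Y₁ l := by
    intro s
    funext J
    have e0 : dd _ 0 (ch s) J =
        (Sum.elim (fun i => dd (sysOf A₀ C.V O) 0 (c i) J) 0 : Fin k ⊕ A → Γ(Y, (rng J).inf C.V)) (emb s) := by
      rcases s with i | β
      · rfl
      · show dd _ 0 (0 : Cochain (sysOf A₀ C.V O) 0) J = 0
        rw [map_zero]; rfl
    rw [e0, hy, Finset.sum_apply, Fintype.sum_sigma, Finset.sum_eq_single J]
    · refine Eq.trans (map_sum (toSec A₀ O ((rng J).inf C.V)) (fun l => (show Γ(O, (rng J).inf C.V) from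
        rhoA A₀ ((rng J).inf C.V) (K J l (emb s)) * y J l)) Finset.univ) (Finset.sum_congr rfl fun l _ => ?_)
      show _ = M ⟨J, l⟩ s • (Pi.single J (toSec A₀ O _ (y J l)) : Cochain (sysOf A₀ C.V O) 1) J
      rw [Pi.single_eq_same]
      rfl
    · intro J' _ hJ'
      exact Finset.sum_eq_zero fun l _ => by
        show M ⟨J', l⟩ s • (Pi.single J' (toSec A₀ O _ (y J' l)) : Cochain (sysOf A₀ C.V O) 1) J = 0
        rw [Pi.single_eq_of_ne (Ne.symm hJ'), smul_zero]
    · exact fun h => absurd (Finset.mem_univ J) h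
  -- the map on sums of copies of `O`
  let Or : ULift.{u} R → Y.Modules := fun _ => O
  let Os : ULift.{u} (Fin k ⊕ t) → Y.Modules := fun _ => O
  haveI : Coh.IsQCoh (∐ Or) := QCohLib.isQCoh_sigma _ fun _ => hO
  haveI : Coh.IsQCoh (∐ Os) := QCohLib.isQCoh_sigma _ fun _ => hO
  let Q : Y.Modules := ⨁ Or
  let P : Y.Modules := ⨁ Os
  haveI : Coh.IsQCoh Q := QCohLib.isQCoh_of_iso (biproduct.isoCoproduct _).symm
  haveI : Coh.IsQCoh P := QCohLib.isQCoh_of_iso (biproduct.isoCoproduct _).symm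
  let comp : ULift.{u} (Fin k ⊕ t) → (Q ⟶ O) := fun s =>
    ∑ l, biproduct.π Or l ≫ Formal.smulMod A₀ O (M l.down s.down)
  let Φ : Q ⟶ P := biproduct.lift comp
  have hπΦ : ∀ (q : ℕ) (v : Cochain (sysOf A₀ C.V Q) q) (s : ULift.{u} (Fin k ⊕ t)),
      cochainMap (sysMap C.V (biproduct.π Os s)) q (cochainMap (sysMap C.V Φ) q v) =
        ∑ l : ULift.{u} R, M l.down s.down • cochainMap (sysMap C.V (biproduct.π Or l)) q v := by
    intro q v s
    rw [← cochainMap_comp, biproduct.lift_π, cochainMap_sum]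
    exact Finset.sum_congr rfl fun l _ => funext fun J => smulMod_app O (M l.down s.down) _ _
  let Yt : Cochain (sysOf A₀ C.V Q) 1 :=
    ∑ l : ULift.{u} R, cochainMap (sysMap C.V (biproduct.ι Or l)) 1 (Y₁ l.down)
  have hπY : ∀ l, cochainMap (sysMap C.V (biproduct.π Or l)) 1 Yt = Y₁ l.down := by
    intro l
    rw [map_sum, Finset.sum_eq_single l]
    · rw [← cochainMap_comp, biproduct.ι_π_self]; rfl
    · intro j _ hj
      rw [← cochainMap_comp, biproduct.ι_π_ne _ hj]; rfl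
    · exact fun h => absurd (Finset.mem_univ l) h
  have hext : ∀ (q : ℕ) (v : Cochain (sysOf A₀ C.V P) q),
      (∀ s, cochainMap (sysMap C.V (biproduct.π Os s)) q v = 0) → v = 0 := by
    intro q v hv
    have e : cochainMap (sysMap (A := A₀) C.V (∑ s, biproduct.π Os s ≫ biproduct.ι Os s)) q v = v := by
      have ht : ∑ s, biproduct.π Os s ≫ biproduct.ι Os s = 𝟙 P := by
        refine biproduct.hom_ext' _ _ fun j => ?_
        rw [Preadditive.comp_sum, Finset.sum_eq_single j (fun i _ hi => by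
          rw [biproduct.ι_π_ne_assoc _ (Ne.symm hi), zero_comp]) (fun h => absurd (Finset.mem_univ j) h),
          biproduct.ι_π_self_assoc, Category.comp_id]
      rw [ht]; rfl
    rw [← e, cochainMap_sum]
    exact Finset.sum_eq_zero fun s _ => by rw [cochainMap_comp, hv, map_zero]
  have hΦd : cochainMap (sysMap C.V Φ) 2 (dd _ 1 Yt) = 0 := by
    refine hext _ _ fun s => ?_
    rw [← dd_cochainMap, ← dd_cochainMap, hπΦ]
    simp only [hπY]
    refine (congrArg (dd (sysOf A₀ C.V O) 1) ((Equiv.sum_comp Equiv.ulift (fun l : R => M l s.down • Y₁ l)).trans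
      (hch s.down).symm)).trans (dd_dd _ _)
  -- correct by `H² = 0` of the kernel
  have hKer : (ShortComplex.mk _ _ (kernel.condition Φ)).Exact :=
    ShortComplex.exact_of_f_is_kernel _ (kernelIsKernel Φ)
  haveI : Coh.IsQCoh (kernel Φ) := QCohLib.isQCoh_kernel Φ
  choose e₁ he₁ using fun J => QCohLib.exists_of_app_eq_zero hKer (inferInstanceAs (Mono (kernel.ι Φ)))
    _ (congrFun hΦd J)
  have hinj : ∀ q, Function.Injective (cochainMap (sysMap (A := A₀) C.V (kernel.ι Φ)) q) := fun q v w h =>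
    funext fun J => QCohLib.app_injective_of_mono (kernel.ι Φ) _ (congrFun h J)
  have he₁' : cochainMap (sysMap C.V (kernel.ι Φ)) 2 e₁ = dd (sysOf A₀ C.V Q) 1 Yt := funext he₁
  have he₁z : dd (sysOf A₀ C.V (kernel Φ)) 2 e₁ = 0 := hinj 3 (by
    rw [← dd_cochainMap, he₁', dd_dd, map_zero])
  obtain ⟨v, hv⟩ := (C.kills (kernel Φ) inferInstance 1 ⟨e₁, LinearMap.mem_ker.2 he₁z⟩).1
    ((hvan (kernel Φ) inferInstance).elim _ _)
  let Y₂ : Cochain (sysOf A₀ C.V Q) 1 := Yt - cochainMap (sysMap C.V (kernel.ι Φ)) 1 v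
  have hY₂ : dd _ 1 Y₂ = 0 := by rw [map_sub, dd_cochainMap, hv, he₁', sub_self]
  choose w hw using fun l : R => (C.kills O hO 0
    ⟨cochainMap (sysMap C.V (biproduct.π Or ⟨l⟩)) 1 Y₂, LinearMap.mem_ker.2 (by
      rw [dd_cochainMap, hY₂, map_zero])⟩).1 (hH1.elim _ _)
  have hsum : ∀ s, ∑ l, M l s • dd _ 0 (w l) = dd _ 0 (ch s) := by
    intro s
    simp only [hw]
    have e2 : cochainMap (sysMap C.V Φ) 1 Y₂ = cochainMap (sysMap C.V Φ) 1 Yt := by
      rw [map_sub, ← cochainMap_comp, kernel.condition]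
      exact sub_eq_self.2 rfl
    have e3 := congr_arg (cochainMap (sysMap C.V (biproduct.π Os ⟨s⟩)) 1) e2
    rw [hπΦ, hπΦ] at e3
    simp only [hπY] at e3
    rw [hch]
    refine Eq.trans ?_ (Equiv.sum_comp Equiv.ulift.{u} (fun l : R => M l s • Y₁ l))
    refine Eq.trans ?_ e3
    exact (Fintype.sum_equiv Equiv.ulift _ _ fun _ => rfl).symm
  let c' : Fin k ⊕ t → Zc (sysOf A₀ C.V O) 0 := fun s => ⟨ch s - ∑ l, M l s • w l, LinearMap.mem_ker.2 (by
    rw [map_sub, map_sum, ← hsum, sub_eq_zero]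
    exact Finset.sum_congr rfl fun l _ => (map_smul _ _ _).symm)⟩
  have hfin : z = ∑ s, bh s • T 0 (c' s).1 := by
    show z = ∑ s, bh s • T 0 (ch s - ∑ l, M l s • w l)
    simp only [T, map_sub, map_sum, Tmap_smul u H, smul_sub, Finset.smul_sum, smul_smul]
    rw [Finset.sum_sub_distrib, Finset.sum_comm, hzc]
    simp only [← Finset.sum_smul, mul_comm (bh _), hM, zero_smul, Finset.sum_const_zero, sub_zero]
    rw [Fintype.sum_sum_type]
    refine Eq.symm (add_eq_left.2 (Finset.sum_eq_zero fun β _ => ?_))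
    show β.1 • Tmap u C.V (QCohLib.structMap u) 0 0 = 0
    rw [map_zero, smul_zero]
  rw [hfin]
  exact Submodule.sum_mem _ fun s _ => Submodule.smul_mem _ _ (Submodule.subset_span ⟨c' s, rfl⟩)

end FibVanLib
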