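import Groth.Agent.FibVanLib.H1Main
import Groth.Agent.KFlatLib.PerfectPull
import Mathlib.RingTheory.Flat.FaithfullyFlat.Basic

/-!
# `H¹` of a fibre from the vanishing of `R¹`
-/

set_option autoImplicit false

universe u

open CategoryTheory CategoryTheory.Limits AlgebraicGeometry TopologicalSpace Opposite TensorProduct
open FormalLib

namespace FibVanLib

/-- Vanishing descends along extensions of fields. -/
theorem subsingleton_H1_of_fieldExt {k K : Type u} [Field k] [Field K] [Algebra k K] {X X' : Scheme.{u}}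
    {f : X ⟶ Spec (CommRingCat.of k)} [QuasiCompact f] [QuasiSeparated f] {f' : X' ⟶ Spec (CommRingCat.of K)}
    {g' : X' ⟶ X} (H : IsPullback g' f' f (Spec.map (CommRingCat.ofHom (algebraMap k K)))) (n : ℕ)
    (h : Subsingleton (Coh.HH X' (Coh.structureModule X') n)) :
    Subsingleton (Coh.HH X (Coh.structureModule X) n) := by
  haveI : CompactSpace X := QuasiCompact.compactSpace_of_compactSpace f
  haveI : QuasiSeparatedSpace X := quasiSeparatedSpace_of_quasiSeparated f
  haveI : Coh.IsQCoh (Coh.structureModule X) := QCohLib.isQCoh_unit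
  obtain ⟨e⟩ := RpushLib.nonempty_affBase_bc H (Coh.structureModule X) n
  letI := Module.compHom (Coh.HH X (Coh.structureModule X) n) (Coh.toGlobal f)
  letI := Module.compHom (Coh.HH X' ((Scheme.Modules.pullback g').obj (Coh.structureModule X)) n) (Coh.toGlobal f')
  have := subsingleton_HH_congr (KFlatLib.pullUnitIso g') h
  have : Subsingleton (K ⊗[k] Coh.HH X (Coh.structureModule X) n) := e.toEquiv.subsingleton
  exact Module.FaithfullyFlat.lTensor_reflects_triviality k K _

/-- Vanishing of `R¹` near a point gives vanishing of `H¹` of the fibre. -/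
theorem subsingleton_H1_fiber {X Y : Scheme.{u}} (f : X ⟶ Y) [IsProper f] {U : Y.Opens} (hU : IsAffineOpen U)
    (y : Y) (hy : y ∈ U) (hd : ∀ t : Y, t ∈ U → topologicalKrullDim ↥(f.fiber t) ≤ ((1 : ℕ) : WithBot ℕ∞))
    (h : Subsingleton (Coh.HH (f ⁻¹ᵁ U : Scheme.{u}) (Coh.structureModule (f ⁻¹ᵁ U : Scheme.{u})) 1)) :
    Subsingleton (Coh.HH (f.fiber y) (Coh.structureModule (f.fiber y)) 1) := by
  let A : Type u := Γ(Y, U)
  let Z : Scheme.{u} := (f ⁻¹ᵁ U : Scheme.{u})
  letI : Z.Over (Spec (CommRingCat.of A)) := ⟨RpushLib.overW f hU⟩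
  let q : Z ⟶ Spec (CommRingCat.of A) := Z ↘ Spec (CommRingCat.of A)
  have sq : IsPullback (f ⁻¹ᵁ U).ι q f hU.fromSpec := isPullback_overAff f hU
  haveI : IsProper q := MorphismProperty.of_isPullback sq inferInstance
  have hdq : ∀ t : Spec (CommRingCat.of A), topologicalKrullDim ↥(q.fiber t) ≤ ((1 : ℕ) : WithBot ℕ∞) := fun t => by
    rw [FibDimLib.topologicalKrullDim_fiber_baseChange sq t]
    exact hd _ (hU.range_fromSpec.subset (Set.mem_range_self t))
  let K : Type u := Y.residueField y
  let k₀ : Spec (CommRingCat.of K) ⟶ Spec (CommRingCat.of A) := IsOpenImmersion.lift hU.fromSpec (Y.fromSpecResidueField y) (by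
    rw [Scheme.range_fromSpecResidueField, hU.range_fromSpec]; exact Set.singleton_subset_iff.2 hy)
  have hk₀ : k₀ ≫ hU.fromSpec = Y.fromSpecResidueField y := IsOpenImmersion.lift_fac _ _ _
  letI : Algebra A K := (Spec.preimage k₀).hom.toAlgebra
  have hk : Spec.map (CommRingCat.ofHom (algebraMap A K)) = k₀ := Spec.map_preimage k₀
  letI : (f.fiber y).Over (Spec (CommRingCat.of K)) := ⟨f.fiberToSpecResidueField y⟩
  obtain ⟨u, -, hu⟩ := exists_square sq (P := f.fiber y) (o := f.fiberι y)
    (p := f.fiber y ↘ Spec (CommRingCat.of K)) (Spec.map (CommRingCat.ofHom (algebraMap A K))) (by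
      rw [hk, hk₀]; exact IsPullback.of_hasPullback f (Y.fromSpecResidueField y))
  exact subsingleton_H1_baseChange u hu (fun N hN => subsingleton_HH_affine q 1 hdq N 2 one_lt_two) 1
    (fun x => h.elim _ _) (by rw [map_one]; exact isUnit_one)

/-- The converse to `exists_nhd_H1`. -/
theorem subsingleton_H1_fiber_of_baseChange {X Y Y' : Scheme.{u}} (f : X ⟶ Y) [IsProper f] (y : Y)
    (hdim : topologicalKrullDim ↥(f.fiber y) ≤ 1) (g : Y' ⟶ Y) (hy : y ∈ Set.range g)
    (hR1 : ∀ U : Y'.Opens, IsAffineOpen U → Subsingleton (Coh.HHon (pullback f g)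
      (Coh.structureModule (pullback f g)) (pullback.snd f g ⁻¹ᵁ U) 1)) :
    Subsingleton (Coh.HH (f.fiber y) (Coh.structureModule (f.fiber y)) 1) := by
  obtain ⟨y', rfl⟩ := hy
  let f' := pullback.snd f g
  have H := IsPullback.of_hasPullback f g
  obtain ⟨U, hU, hyU, hsub⟩ := exists_isAffineOpen_mem_and_subset
    (show y' ∈ (⟨_, FibDimLib.isOpen_fiber_dim_le f' f'.isClosedMap ((1 : ℕ) : WithBot ℕ∞)⟩ : Y'.Opens) from by
      show topologicalKrullDim ↥(f'.fiber y') ≤ _
      rw [FibDimLib.topologicalKrullDim_fiber_baseChange H y']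
      exact hdim)
  obtain ⟨eO⟩ := MiscFlat6.nonempty_restrict_structureModule (X := pullback f g) (f' ⁻¹ᵁ U).ι
  have h := subsingleton_H1_fiber f' hU y' hyU (fun t ht => hsub ht)
    (subsingleton_HH_congr eO.symm (hR1 U hU))
  letI : Algebra (Y.residueField (g y')) (Y'.residueField y') := (g.residueFieldMap y').hom.toAlgebra
  haveI : QuasiCompact (f.fiberToSpecResidueField (g y')) := inferInstanceAs (QuasiCompact (pullback.snd _ _))
  haveI : QuasiSeparated (f.fiberToSpecResidueField (g y')) := inferInstanceAs (QuasiSeparated (pullback.snd _ _))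
  exact subsingleton_H1_of_fieldExt (k := Y.residueField (g y')) (K := Y'.residueField y')
    (f := f.fiberToSpecResidueField (g y')) (isPullback_fiberToSpecResidueField_of_isPullback H y') 1 h

end FibVanLib
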