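import Groth.Agent.FibVanLib.TopFinite

/-!
# `H¹(Y, O) → H¹(X, O)` is injective when `O_Y = f_* O_X`
-/

set_option autoImplicit false
set_option maxHeartbeats 800000

universe u

open CategoryTheory CategoryTheory.Limits AlgebraicGeometry TopologicalSpace Opposite
open GradedCechLib (Sys Cochain rng dd rng_nonempty)
open FormalLib

namespace FibVanLib

variable {k : Type u} [Field k] {X Y : Scheme.{u}} [X.Over (Spec (CommRingCat.of k))] [Y.Over (Spec (CommRingCat.of k))]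

theorem res_res' (X : Scheme.{u}) {A B C : X.Opens} (h : C ≤ B) (h' : B ≤ A) (x : Γ(X, A)) :
    X.presheaf.map (homOfLE h).op (X.presheaf.map (homOfLE h').op x) =
      X.presheaf.map (homOfLE (h.trans h')).op x :=
  QCohLib.map_map' (Coh.structureModule X) (homOfLE h) (homOfLE h') x

/-- **The edge map is injective.** -/
theorem finrank_H1_le [IsProper (X ↘ Spec (CommRingCat.of k))] [IsProper (Y ↘ Spec (CommRingCat.of k))]
    (f : X ⟶ Y) (hf : f ≫ (Y ↘ Spec (CommRingCat.of k)) = X ↘ Spec (CommRingCat.of k))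
    (hfib : ∀ V : Y.Opens, IsIso (f.app V)) [Module.Finite k (Coh.HH X (Coh.structureModule X) 1)] :
    Module.finrank k (Coh.HH Y (Coh.structureModule Y) 1) ≤ Module.finrank k (Coh.HH X (Coh.structureModule X) 1) := by
  classical
  haveI hOY : Coh.IsQCoh (Coh.structureModule Y) := QCohLib.isQCoh_unit
  haveI hOX : Coh.IsQCoh (Coh.structureModule X) := QCohLib.isQCoh_unit
  haveI : X.IsSeparated := ⟨by
    rw [← terminal.comp_from (X ↘ Spec (CommRingCat.of k))]
    infer_instance⟩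
  haveI : CompactSpace X := QuasiCompact.compactSpace_of_compactSpace (X ↘ Spec (CommRingCat.of k))
  obtain ⟨C, hcov⟩ := exists_setup_cover k Y
  have hx : ∀ x : X, ∃ i, f x ∈ C.V i := fun x => Opens.mem_iSup.1 (hcov.ge (Opens.mem_top (f x)))
  choose i₀ hi₀ using hx
  choose W₀ hW₀ hxW₀ hW₀le using fun x => exists_isAffineOpen_mem_and_subset (show x ∈ f ⁻¹ᵁ C.V (i₀ x) from hi₀ x)
  obtain ⟨t, ht⟩ := isCompact_univ.elim_finite_subcover (fun x : X => (W₀ x : Set X)) (fun x => (W₀ x).isOpen)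
    fun x _ => Set.mem_iUnion.2 ⟨x, hxW₀ x⟩
  let W : Fin t.card → X.Opens := fun a => W₀ (t.equivFin.symm a).1
  let σ : Fin t.card → Fin C.m := fun a => i₀ (t.equivFin.symm a).1
  have hWσ : ∀ a, W a ≤ f ⁻¹ᵁ C.V (σ a) := fun a x hx => hW₀le _ hx
  have hcovW : ⨆ a, W a = ⊤ := eq_top_iff.2 fun x _ => by
    obtain ⟨y, hy, hxy⟩ := Set.mem_iUnion₂.1 (ht (Set.mem_univ x))
    exact Opens.mem_iSup.2 ⟨t.equivFin ⟨y, hy⟩, by simpa [W] using hxy⟩
  obtain ⟨κ, -, -, hκk, -⟩ := exists_cls k W (fun a => hW₀ _) hcovW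
  let O := Coh.structureModule X
  let O₀ := Coh.structureModule Y
  have hle : ∀ {p : ℕ} (J : Fin (p + 1) → Fin t.card), (rng J).inf W ≤ f ⁻¹ᵁ (rng (σ ∘ J)).inf C.V := fun J => by
    rw [← inf_preV f C.V]
    refine Finset.le_inf fun i hi => ?_
    obtain ⟨a, -, rfl⟩ := Finset.mem_image.1 hi
    exact (Finset.inf_le (Finset.mem_image_of_mem J (Finset.mem_univ a))).trans (hWσ (J a))
  let Pull : ∀ p, Cochain (sysOf k C.V O₀) p →ₗ[k] Cochain (sysOf k W O) p := fun p =>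
    { toFun := fun c J => toSec k O _ (f.appLE _ _ (hle J) (c (σ ∘ J)))
      map_add' := fun c c' => funext fun J => map_add (f.appLE _ _ (hle J)).hom _ _
      map_smul' := fun b c => funext fun J => by
        show f.appLE _ _ (hle J) (rhoA k _ b * (show Γ(Y, _) from c (σ ∘ J))) = rhoA k _ b * f.appLE _ _ (hle J) (c (σ ∘ J))
        refine (map_mul (f.appLE _ _ (hle J)).hom _ _).trans ?_
        refine congrArg (· * f.appLE _ _ (hle J) (c (σ ∘ J))) ?_
        exact app_rhoA (A₀ := k) (A := k) f (by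
          rw [Algebra.algebraMap_self, CommRingCat.ofHom_id, Spec.map_id, Category.comp_id]; exact hf) _ _ (hle J) b }
  have hPull : ∀ (p : ℕ) (c : Cochain (sysOf k C.V O₀) p), dd _ p (Pull p c) = Pull (p + 1) (dd _ p c) := by
    intro p c
    funext J
    rw [GradedCechLib.dd_apply]
    show _ = f.appLE _ _ (hle J) (dd _ p c (σ ∘ J))
    rw [GradedCechLib.dd_apply]
    refine Eq.trans ?_ (map_sum (f.appLE _ _ (hle J)).hom _ _).symm
    refine Finset.sum_congr rfl fun l _ => ?_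
    refine Eq.trans ?_ (map_zsmul (f.appLE _ _ (hle J)).hom ((-1 : ℤ) ^ (l : ℕ)) _).symm
    refine congrArg (((-1 : ℤ) ^ (l : ℕ)) • ·) ?_
    show (f.appLE _ _ (hle _) ≫ X.presheaf.map (homOfLE _).op).hom (c (σ ∘ J ∘ l.succAbove)) =
      (Y.presheaf.map (homOfLE _).op ≫ f.appLE _ _ (hle J)).hom (c ((σ ∘ J) ∘ l.succAbove))
    rw [Scheme.Hom.appLE_map, Scheme.Hom.map_appLE]
    rfl
  let P : Zc (sysOf k C.V O₀) 1 →ₗ[k] Zc (sysOf k W O) 1 := (Pull 1).restrict fun c hc => by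
    rw [LinearMap.mem_ker] at hc ⊢
    rw [hPull, hc, map_zero]
  let Φ : Zc (sysOf k C.V O₀) 1 →ₗ[k] Coh.HH X O 1 := (κ O hOX 1).comp P
  let Ψ : Zc (sysOf k C.V O₀) 1 →ₗ[k] Coh.HH Y O₀ 1 := C.κ O₀ hOY 1
  suffices hker : LinearMap.ker Φ ≤ LinearMap.ker Ψ by
    let G := (LinearMap.ker Φ).liftQ Ψ hker
    have hG : Function.Surjective G := fun y => by
      obtain ⟨z, hz⟩ := C.surj O₀ hOY 1 y
      exact ⟨Submodule.Quotient.mk z, hz⟩
    haveI : Module.Finite k (Zc (sysOf k C.V O₀) 1 ⧸ LinearMap.ker Φ) :=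
      Module.Finite.equiv Φ.quotKerEquivRange.symm
    exact (LinearMap.finrank_le_finrank_of_surjective hG).trans
      (Φ.quotKerEquivRange.finrank_eq.trans_le (Submodule.finrank_le _))
  intro z hz
  rw [LinearMap.mem_ker] at hz ⊢
  obtain ⟨c, hc⟩ := (hκk O hOX 0 (P z)).1 hz
  -- the sections of `z`
  have hij : ∀ i j : Fin C.m, C.V i ⊓ C.V j ≤ (rng ![i, j]).inf C.V := fun i j => Finset.le_inf fun x hx => by
    obtain ⟨a, -, rfl⟩ := Finset.mem_image.1 hx
    fin_cases a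
    · exact inf_le_left
    · exact inf_le_right
  let zz : ∀ i j, Γ(Y, C.V i ⊓ C.V j) := fun i j =>
    Y.presheaf.map (homOfLE (hij i j)).op (z.1 ![i, j])
  let Z : ∀ (i j) (U : X.Opens), U ≤ f ⁻¹ᵁ (C.V i ⊓ C.V j) → Γ(X, U) := fun i j U h => f.appLE _ U h (zz i j)
  have hZres : ∀ i j (U U' : X.Opens) (h : U ≤ f ⁻¹ᵁ (C.V i ⊓ C.V j)) (h' : U' ≤ U),
      X.presheaf.map (homOfLE h').op (Z i j U h) = Z i j U' (h'.trans h) := fun i j U U' h h' =>
    congr($(f.appLE_map (i := (homOfLE h').op) h) (zz i j))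
  have hzcoc : ∀ i j l, ∀ (V : Y.Opens) (h1 : V ≤ C.V i) (h2 : V ≤ C.V j) (h3 : V ≤ C.V l),
      Y.presheaf.map (homOfLE (le_inf h2 h3)).op (zz j l) + Y.presheaf.map (homOfLE (le_inf h1 h2)).op (zz i j) =
        Y.presheaf.map (homOfLE (le_inf h1 h3)).op (zz i l) := by
    intro i j l V h1 h2 h3
    have e := congr_fun (LinearMap.mem_ker.1 z.2) ![i, j, l]
    have hV : V ≤ (rng ![i, j, l]).inf C.V := Finset.le_inf fun x hx => by
      obtain ⟨a, -, rfl⟩ := Finset.mem_image.1 hx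
      fin_cases a <;> assumption
    rw [GradedCechLib.dd_apply, Fin.sum_univ_three] at e
    simp only [Fin.val_zero, pow_zero, one_smul, Fin.val_one, pow_one, neg_smul, Fin.val_two, neg_one_sq, Pi.zero_apply] at e
    have ea : (![i, j, l] : Fin 3 → Fin C.m) ∘ (0 : Fin 3).succAbove = ![j, l] := by
      funext a; fin_cases a <;> rfl
    have eb : (![i, j, l] : Fin 3 → Fin C.m) ∘ (1 : Fin 3).succAbove = ![i, l] := by
      funext a; fin_cases a <;> rfl
    have ec : (![i, j, l] : Fin 3 → Fin C.m) ∘ (2 : Fin 3).succAbove = ![i, j] := by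
      funext a; fin_cases a <;> rfl
    have hs : ∀ {a b : Fin 3}, rng ![(![i, j, l] : Fin 3 → Fin C.m) a, (![i, j, l] : Fin 3 → Fin C.m) b] ⊆ rng ![i, j, l] :=
      fun {a b} x hx => by
        obtain ⟨r, -, rfl⟩ := Finset.mem_image.1 hx
        fin_cases r
        · exact Finset.mem_image_of_mem _ (Finset.mem_univ a)
        · exact Finset.mem_image_of_mem _ (Finset.mem_univ b)
    rw [GradedCechLib.res_congr z.1 ea _ (hs (a := 1) (b := 2)), GradedCechLib.res_congr z.1 eb _ (hs (a := 0) (b := 2)),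
      GradedCechLib.res_congr z.1 ec _ (hs (a := 0) (b := 1))] at e
    have e' := congr_arg (Coh.structureModule Y |>.presheaf.map (homOfLE hV).op) e
    simp only [zz]
    rw [res_res', res_res', res_res', eq_comm, ← sub_eq_zero]
    have hN : ∀ (a b : Fin C.m) (hab : rng ![a, b] ⊆ rng ![i, j, l]) (h' : V ≤ (rng ![a, b]).inf C.V),
        (Coh.structureModule Y).presheaf.map (homOfLE hV).op (GradedCechLib.res (sysOf k C.V O₀) hab (z.1 ![a, b])) =
          Y.presheaf.map (homOfLE h').op (z.1 ![a, b]) := fun a b hab h' =>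
      res_res' Y hV (Finset.inf_mono hab) (z.1 ![a, b])
    refine Eq.trans ?_ (neg_eq_zero.2 (e'.trans (map_zero _)))
    refine Eq.trans ?_ (congrArg Neg.neg ((map_add _ _ _).trans (congrArg₂ (· + ·) ((map_add _ _ _).trans
      (congrArg₂ (· + ·) (hN j l _ ((le_inf h2 h3).trans (hij j l))) ((map_neg _ _).trans
        (congrArg Neg.neg (hN i l _ ((le_inf h1 h3).trans (hij i l))))))) (hN i j _ ((le_inf h1 h2).trans (hij i j))))).symm)
    abel
  have hZcoc : ∀ i j l (U : X.Opens) (h1 : U ≤ f ⁻¹ᵁ C.V i) (h2 : U ≤ f ⁻¹ᵁ C.V j) (h3 : U ≤ f ⁻¹ᵁ C.V l),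
      Z j l U (fun x hx => ⟨h2 hx, h3 hx⟩) + Z i j U (fun x hx => ⟨h1 hx, h2 hx⟩) = Z i l U (fun x hx => ⟨h1 hx, h3 hx⟩) := by
    intro i j l U h1 h2 h3
    let V := C.V i ⊓ C.V j ⊓ C.V l
    have hU : U ≤ f ⁻¹ᵁ V := fun x hx => ⟨⟨h1 hx, h2 hx⟩, h3 hx⟩
    have e := congr_arg (f.appLE V U hU) (hzcoc i j l V (fun x hx => hx.1.1) (fun x hx => hx.1.2) (fun x hx => hx.2))
    rw [map_add] at e
    simp only [← ConcreteCategory.comp_apply, Scheme.Hom.map_appLE] at e
    exact e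
  have htr : ∀ {J J' : Fin 2 → Fin C.m} (_ : J = J') {U : X.Opens} (h : U ≤ f ⁻¹ᵁ (rng J).inf C.V)
      (h' : U ≤ f ⁻¹ᵁ (rng J').inf C.V), f.appLE _ U h (z.1 J) = f.appLE _ U h' (z.1 J') := by
    rintro J J' rfl U h h'
    rfl
  -- the sections of `c`
  have hWa : ∀ a, W a ≤ (rng fun _ : Fin 1 => a).inf W := fun a => Finset.le_inf fun x hx => by
    obtain ⟨r, -, rfl⟩ := Finset.mem_image.1 hx
    exact le_rfl
  let cc : ∀ a, Γ(X, W a) := fun a => X.presheaf.map (homOfLE (hWa a)).op (c fun _ => a)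
  have hdc : ∀ a b (U : X.Opens) (ha : U ≤ W a) (hb : U ≤ W b),
      X.presheaf.map (homOfLE hb).op (cc b) - X.presheaf.map (homOfLE ha).op (cc a) =
        Z (σ a) (σ b) U (fun x hx => ⟨hWσ a (ha hx), hWσ b (hb hx)⟩) := by
    intro a b U ha hb
    have e := congr_fun hc ![a, b]
    have hU : U ≤ (rng ![a, b]).inf W := Finset.le_inf fun x hx => by
      obtain ⟨r, -, rfl⟩ := Finset.mem_image.1 hx
      fin_cases r <;> assumption
    rw [GradedCechLib.dd_apply, Fin.sum_univ_two] at e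
    simp only [Fin.val_zero, pow_zero, one_smul, Fin.val_one, pow_one, neg_smul] at e
    have ea : (![a, b] : Fin 2 → Fin t.card) ∘ (0 : Fin 2).succAbove = fun _ => b := by
      funext r; fin_cases r; rfl
    have eb : (![a, b] : Fin 2 → Fin t.card) ∘ (1 : Fin 2).succAbove = fun _ => a := by
      funext r; fin_cases r; rfl
    rw [GradedCechLib.res_congr c ea _ (fun x hx => by
        obtain ⟨r, -, rfl⟩ := Finset.mem_image.1 hx
        exact Finset.mem_image.2 ⟨1, Finset.mem_univ _, rfl⟩),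
      GradedCechLib.res_congr c eb _ (fun x hx => by
        obtain ⟨r, -, rfl⟩ := Finset.mem_image.1 hx
        exact Finset.mem_image.2 ⟨0, Finset.mem_univ _, rfl⟩), ← sub_eq_add_neg] at e
    have e' := congr_arg (O.presheaf.map (homOfLE hU).op) e
    refine Eq.trans (congrArg₂ (· - ·) ?_ ?_) ((map_sub _ _ _).symm.trans (e'.trans ?_))
    · exact (res_res' X _ _ _).trans (res_res' X _ _ _).symm
    · exact (res_res' X _ _ _).trans (res_res' X _ _ _).symm
    · show (f.appLE _ _ (hle ![a, b]) ≫ X.presheaf.map (homOfLE hU).op).hom (z.1 (σ ∘ ![a, b])) =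
        (Y.presheaf.map (homOfLE (hij (σ a) (σ b))).op ≫ f.appLE _ U _).hom (z.1 ![σ a, σ b])
      have hp : σ ∘ ![a, b] = ![σ a, σ b] := by funext r; fin_cases r <;> rfl
      rw [Scheme.Hom.appLE_map, Scheme.Hom.map_appLE]
      exact htr hp _ _
  -- glue
  have hs : ∀ i, ∃ y : Γ(Y, C.V i), ∀ a (U : X.Opens) (ha : U ≤ W a) (hi : U ≤ f ⁻¹ᵁ C.V i),
      f.appLE (C.V i) U hi y =
        X.presheaf.map (homOfLE ha).op (cc a) + Z (σ a) i U (fun x hx => ⟨hWσ a (ha hx), hi hx⟩) := by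
    intro i
    let Ua : Fin t.card → X.Opens := fun a => W a ⊓ f ⁻¹ᵁ C.V i
    let sf : ∀ a, Γ(O, Ua a) := fun a => (show Γ(X, Ua a) from
      X.presheaf.map (homOfLE inf_le_left).op (cc a) + Z (σ a) i (Ua a) (fun x hx => ⟨hWσ a hx.1, hx.2⟩))
    obtain ⟨g, hg, -⟩ := TopCat.Sheaf.existsUnique_gluing' (F := ⟨O.presheaf, O.isSheaf⟩) Ua (f ⁻¹ᵁ C.V i)
      (fun a => homOfLE inf_le_right) (fun x hx => by
        obtain ⟨a, ha⟩ := Opens.mem_iSup.1 (hcovW.ge (Opens.mem_top x))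
        exact Opens.mem_iSup.2 ⟨a, ha, hx⟩) sf (by
      intro a b
      show X.presheaf.map _ (_ + _) = X.presheaf.map _ (_ + _)
      rw [map_add, map_add]
      refine (congrArg₂ (· + ·) (res_res' X (inf_le_left : Ua a ⊓ Ua b ≤ Ua a) (inf_le_left : Ua a ≤ W a) (cc a))
        (hZres (σ a) i (Ua a) (Ua a ⊓ Ua b) _ inf_le_left)).trans (Eq.trans ?_
        (congrArg₂ (· + ·) (res_res' X (inf_le_right : Ua a ⊓ Ua b ≤ Ua b) (inf_le_left : Ua b ≤ W b) (cc b))
          (hZres (σ b) i (Ua b) (Ua a ⊓ Ua b) _ inf_le_right)).symm)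
      have e1 := hdc a b (Ua a ⊓ Ua b) (fun x hx => hx.1.1) (fun x hx => hx.2.1)
      have e2 := hZcoc (σ a) (σ b) i (Ua a ⊓ Ua b) (fun x hx => hWσ a hx.1.1) (fun x hx => hWσ b hx.2.1) (fun x hx => hx.1.2)
      rw [sub_eq_iff_eq_add] at e1
      rw [e1, ← e2]
      abel)
    haveI := hfib (C.V i)
    obtain ⟨y, hy⟩ := (ConcreteCategory.bijective_of_isIso (f.app (C.V i))).2 g
    refine ⟨y, fun a U ha hi => ?_⟩
    show X.presheaf.map (homOfLE hi).op (f.app (C.V i) y) = _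
    rw [hy]
    have e := congr_arg (X.presheaf.map (homOfLE (le_inf ha hi : U ≤ Ua a)).op) (hg a)
    refine (res_res' X _ _ g).symm.trans (e.trans ?_)
    show X.presheaf.map _ (_ + _) = _
    rw [map_add, res_res', hZres]
  choose y hy using hs
  refine (C.kills O₀ hOY 0 z).2 ⟨fun J => toSec k O₀ _ (Y.presheaf.map
    (homOfLE (Finset.inf_le (Finset.mem_image_of_mem J (Finset.mem_univ 0)))).op (y (J 0))), funext fun J => ?_⟩
  rw [GradedCechLib.dd_apply, Fin.sum_univ_two]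
  simp only [Fin.val_zero, pow_zero, one_smul, Fin.val_one, pow_one, neg_smul]
  rw [← sub_eq_add_neg]
  have h0 : (rng J).inf C.V ≤ C.V (J 0) := Finset.inf_le (Finset.mem_image_of_mem J (Finset.mem_univ 0))
  have h1 : (rng J).inf C.V ≤ C.V (J 1) := Finset.inf_le (Finset.mem_image_of_mem J (Finset.mem_univ 1))
  show Y.presheaf.map (homOfLE _).op (Y.presheaf.map (homOfLE _).op (y (J 1))) -
    Y.presheaf.map (homOfLE _).op (Y.presheaf.map (homOfLE _).op (y (J 0))) = (show Γ(Y, (rng J).inf C.V) from z.1 J)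
  rw [res_res', res_res']
  haveI := hfib ((rng J).inf C.V)
  refine (ConcreteCategory.bijective_of_isIso (f.app ((rng J).inf C.V))).1 ?_
  refine TopCat.Sheaf.eq_of_locally_eq' (F := ⟨O.presheaf, O.isSheaf⟩) (fun a => W a ⊓ f ⁻¹ᵁ (rng J).inf C.V)
    (f ⁻¹ᵁ (rng J).inf C.V) (fun a => homOfLE inf_le_right) (fun x hx => by
      obtain ⟨a, ha⟩ := Opens.mem_iSup.1 (hcovW.ge (Opens.mem_top x))
      exact Opens.mem_iSup.2 ⟨a, ha, hx⟩) _ _ fun a => ?_
  let U := W a ⊓ f ⁻¹ᵁ (rng J).inf C.V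
  show f.appLE ((rng J).inf C.V) U inf_le_right _ = f.appLE ((rng J).inf C.V) U inf_le_right _
  refine (map_sub (f.appLE ((rng J).inf C.V) U inf_le_right).hom _ _).trans ?_
  refine (congrArg₂ (· - ·)
    ((congr($(f.map_appLE inf_le_right (homOfLE h1).op) (y (J 1)))).trans
      (hy (J 1) a U inf_le_left (fun x hx => h1 hx.2)))
    ((congr($(f.map_appLE inf_le_right (homOfLE h0).op) (y (J 0)))).trans
      (hy (J 0) a U inf_le_left (fun x hx => h0 hx.2)))).trans ?_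
  rw [add_sub_add_left_eq_sub, sub_eq_iff_eq_add,
    ← hZcoc (σ a) (J 0) (J 1) U (fun x hx => hWσ a hx.1) (fun x hx => h0 hx.2) (fun x hx => h1 hx.2), add_left_inj]
  show (Y.presheaf.map (homOfLE (hij (J 0) (J 1))).op ≫ f.appLE _ U _).hom (z.1 ![J 0, J 1]) = _
  rw [Scheme.Hom.map_appLE]
  exact htr (by funext r; fin_cases r <;> rfl) _ _

end FibVanLib
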