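import Groth.Agent.FibVanLib.Model
import Groth.Agent.FibDimLib.SchemeInv
import Groth.Agent.FibDimLib.Local
import Mathlib.AlgebraicGeometry.AffineTransitionLimit

/-!
# Fibre dimensions in limits of morphisms with closed transition maps
-/

set_option autoImplicit false

universe u

open CategoryTheory CategoryTheory.Limits AlgebraicGeometry Opposite TopologicalSpace

namespace FibVanLib

/-- Local fibre dimension of a closed subscheme. -/
theorem fibreDimAt_comp_le_of_isClosedImmersion {X Y S : Scheme.{u}} (ψ : X ⟶ Y) [IsClosedImmersion ψ]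
    (q : Y ⟶ S) (x : X) : FlatMor.fibreDimAt (ψ ≫ q) x ≤ FlatMor.fibreDimAt q (ψ x) := by
  let e : ↥((ψ ≫ q) ⁻¹' {q (ψ x)}) → ↥(q ⁻¹' {q (ψ x)}) := fun w => ⟨ψ w.1, w.2⟩
  have he : Topology.IsInducing e :=
    (Topology.IsInducing.subtypeVal.of_comp_iff).mp
      (ψ.isClosedEmbedding.isInducing.comp Topology.IsInducing.subtypeVal)
  let k : (ψ ≫ q).fiber (q (ψ x)) → q.fiber (q (ψ x)) :=
    (q.fiberHomeo (q (ψ x))).symm ∘ e ∘ (ψ ≫ q).fiberHomeo (q (ψ x))
  have hk : Topology.IsInducing k :=
    (q.fiberHomeo _).symm.isInducing.comp (he.comp ((ψ ≫ q).fiberHomeo _).isInducing)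
  refine (FibDimLib.localDim_le_of_isInducing hk ((ψ ≫ q).asFiber x)).trans (le_of_eq ?_)
  congr 1
  refine (q.fiberHomeo _).symm_apply_eq.mpr (Subtype.ext ?_)
  show ψ _ = ((q.fiberHomeo (q (ψ x))) (q.asFiber (ψ x))).1
  rw [Scheme.Hom.fiberHomeo_apply, Scheme.Hom.fiberHomeo_apply]
  exact (congrArg ψ ((ψ ≫ q).fiberι_asFiber x)).trans (q.fiberι_asFiber (ψ x)).symm

section Limit

variable {I : Type u} [SmallCategory I] [IsCofiltered I]
  (DX DS : I ⥤ Scheme.{u}) (φ : DX ⟶ DS) (cX : Cone DX) (cS : Cone DS)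
  (hX : IsLimit cX) (hS : IsLimit cS)
  [∀ (i j : I) (a : i ⟶ j), IsAffineHom (DS.map a)] [∀ i, CompactSpace (DS.obj i)]
  [∀ i, QuasiSeparatedSpace (DS.obj i)] [∀ i, LocallyOfFiniteType (φ.app i)] [∀ i, QuasiCompact (φ.app i)]
  (hcl : ∀ (i j : I) (a : i ⟶ j), IsClosedImmersion (pullback.lift (DX.map a) (φ.app i) (φ.naturality a)))
  (f : cX.pt ⟶ cS.pt) (hf : ∀ i, f ≫ cS.π.app i = cX.π.app i ≫ φ.app i)

/-- The comparison into the base change of a fixed stage. -/
noncomputable abbrev psi {i j : I} (a : i ⟶ j) : DX.obj i ⟶ pullback (φ.app j) (DS.map a) :=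
  pullback.lift (DX.map a) (φ.app i) (φ.naturality a)

/-- From the base change to the limit to the base change to a stage. -/
noncomputable abbrev rStage {i j : I} (a : i ⟶ j) :
    pullback (φ.app j) (cS.π.app j) ⟶ pullback (φ.app j) (DS.map a) :=
  pullback.lift (pullback.fst _ _) (pullback.snd _ _ ≫ cS.π.app i) (by
    rw [pullback.condition, Category.assoc, cS.w])

include hcl in
theorem isAffineHom_DX {i j : I} (a : i ⟶ j) : IsAffineHom (DX.map a) := by
  have := hcl i j a
  have : IsAffineHom (pullback.fst (φ.app j) (DS.map a)) :=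
    MorphismProperty.pullback_fst _ _ inferInstance
  rw [← pullback.lift_fst (DX.map a) (φ.app i) (φ.naturality a)]
  infer_instance

include hcl hX hS hf in
theorem exists_stage_forall_fibre_dim (d : ℕ) (hd : ∀ s : cS.pt, topologicalKrullDim ↥(f.fiber s) ≤ d) :
    ∃ i : I, ∀ s : DS.obj i, topologicalKrullDim ↥((φ.app i).fiber s) ≤ d := by
  suffices h : ∃ i : I, ∀ x : DX.obj i, FlatMor.fibreDimAt (φ.app i) x ≤ (d : WithBot ℕ∞) by
    obtain ⟨i, hi⟩ := h
    exact ⟨i, fun s => (FibDimLib.topologicalKrullDim_fiber_le_iff (φ.app i) s _).mpr fun x _ => hi x⟩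
  by_contra! hne
  have hA : ∀ {i j : I} (a : i ⟶ j), IsAffineHom (DX.map a) := fun a => isAffineHom_DX DX DS φ hcl a
  have hcpt : ∀ i, CompactSpace (DX.obj i) := fun i => QuasiCompact.compactSpace_of_compactSpace (φ.app i)
  let E : ∀ i, Set (DX.obj i) := fun i => {x | FlatMor.fibreDimAt (φ.app i) x ≤ (d : WithBot ℕ∞)}ᶜ
  have hE : ∀ i, IsClosed (E i) := fun i => (FibDimLib.isOpen_fibreDimAt_le (φ.app i) _).isClosed_compl
  obtain ⟨x, hx⟩ := exists_mem_of_isClosed_of_nonempty DX cX hX E hE
    (fun i => ⟨(hne i).choose, fun h => absurd h (not_le.mpr (hne i).choose_spec)⟩)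
    (fun i => (hE i).isCompact) (fun {i j} a z hz hz' => hz (by
      haveI := hcl i j a
      have h1 := fibreDimAt_comp_le_of_isClosedImmersion (psi DX DS φ a) (pullback.snd _ _) z
      rw [pullback.lift_snd] at h1
      refine h1.trans ?_
      rw [FibDimLib.fibreDimAt_baseChange (IsPullback.of_hasPullback (φ.app j) (DS.map a)) (psi DX DS φ a z)]
      refine le_of_eq_of_le ?_ hz'
      show FlatMor.fibreDimAt (φ.app j) ((psi DX DS φ a ≫ pullback.fst _ _) z) = _
      rw [pullback.lift_fst]))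
  let s : cS.pt := f x
  obtain ⟨i₀⟩ := IsCofiltered.nonempty (C := I)
  let P : Scheme.{u} := pullback (φ.app i₀) (cS.π.app i₀)
  let q : P ⟶ cS.pt := pullback.snd _ _
  let t : cX.pt ⟶ P := pullback.lift (cX.π.app i₀) f (hf i₀).symm
  have ht : ∀ (i : I) (a : i ⟶ i₀), t ≫ rStage DX DS φ cS a = cX.π.app i ≫ psi DX DS φ a := fun i a => by
    refine pullback.hom_ext ?_ ?_
    · rw [Category.assoc, Category.assoc, pullback.lift_fst, pullback.lift_fst, pullback.lift_fst, cX.w]
    · rw [Category.assoc, Category.assoc, pullback.lift_snd, pullback.lift_snd, pullback.lift_snd_assoc, hf]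
  have htind : Topology.IsInducing t := by
    refine ⟨le_antisymm t.continuous.le_induced fun U hU => ?_⟩
    rw [@isOpen_iff_forall_mem_open]
    intro w hw
    obtain ⟨_, ⟨V, ⟨i, W, -, rfl⟩, rfl⟩, hwV, hVU⟩ :=
      (isBasis_preimage_isAffineOpen DX cX hX).exists_subset_of_mem_open hw hU
    obtain ⟨j, a, b, -⟩ := IsCofilteredOrEmpty.cone_objs i i₀
    haveI := hcl j i₀ b
    obtain ⟨W', hW', e⟩ := (psi DX DS φ b).isClosedEmbedding.isInducing.isOpen_iff.mp
      (DX.map a ⁻¹ᵁ W).isOpen
    have hpre : (cX.π.app i) ⁻¹' (W : Set (DX.obj i)) = t ⁻¹' (rStage DX DS φ cS b ⁻¹' W') := by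
      rw [← Set.preimage_comp]
      show _ = (t ≫ rStage DX DS φ cS b) ⁻¹' W'
      rw [ht j b]
      show _ = (cX.π.app j) ⁻¹' (psi DX DS φ b ⁻¹' W')
      rw [e, ← cX.w a]
      rfl
    refine ⟨_, hVU, ?_, hwV⟩
    exact ⟨_, hW'.preimage (rStage DX DS φ cS b).continuous, hpre.symm⟩
  let Q : Set P := q ⁻¹' {s}
  have hQ : NoetherianSpace Q := noetherianSpace_fibre q s
  let V : Over i₀ → Set Q := fun a =>
    Subtype.val ⁻¹' (rStage DX DS φ cS a.hom ⁻¹' Set.range (psi DX DS φ a.hom))
  have hV : ∀ a, IsClosed (V a) := fun a => by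
    haveI := hcl a.left i₀ a.hom
    exact (((psi DX DS φ a.hom).isClosedEmbedding.isClosed_range).preimage
      (rStage DX DS φ cS a.hom).continuous).preimage continuous_subtype_val
  have hcov : (Subtype.val ⁻¹' Set.range t : Set Q)ᶜ ⊆ ⋃ a, (V a)ᶜ := fun z hz => by
    rw [Set.mem_iUnion]
    by_contra h
    simp only [Set.mem_compl_iff, not_exists, not_not] at h
    refine hz ?_
    let m : Spec (P.residueField z.1) ⟶ P := P.fromSpecResidueField z.1
    have hl : ∀ a : Over i₀, ∃ l : Spec (P.residueField z.1) ⟶ DX.obj a.left,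
        l ≫ psi DX DS φ a.hom = m ≫ rStage DX DS φ cS a.hom := fun a => by
      haveI := hcl a.left i₀ a.hom
      have hr : Set.range (m ≫ rStage DX DS φ cS a.hom) ⊆ Set.range (psi DX DS φ a.hom) := by
        rintro _ ⟨w, rfl⟩
        rw [Scheme.Hom.comp_apply, show m w = z.1 from P.fromSpecResidueField_apply z.1 w]
        exact h a
      exact ⟨IsClosedImmersion.lift _ _ (DvrProperLib.ker_le_ker_of_range_subset _ _ hr),
        IsClosedImmersion.lift_fac _ _ _⟩
    choose l hl using hl
    have hl1 : ∀ a : Over i₀, l a ≫ DX.map a.hom = m ≫ pullback.fst _ _ := fun a => by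
      have := congrArg (fun ψ : _ ⟶ pullback (φ.app i₀) (DS.map a.hom) => ψ ≫ pullback.fst _ _) (hl a)
      simp only [Category.assoc] at this
      rw [pullback.lift_fst, pullback.lift_fst] at this
      exact this
    have hl2 : ∀ a : Over i₀, l a ≫ φ.app a.left = m ≫ q ≫ cS.π.app a.left := fun a => by
      have := congrArg (fun ψ : _ ⟶ pullback (φ.app i₀) (DS.map a.hom) => ψ ≫ pullback.snd _ _) (hl a)
      simp only [Category.assoc] at this
      rw [pullback.lift_snd, pullback.lift_snd] at this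
      exact this
    let C : Cone (Over.forget i₀ ⋙ DX) :=
      { pt := Spec (P.residueField z.1)
        π :=
          { app := l
            naturality := fun a b c => by
              haveI := hcl b.left i₀ b.hom
              refine (Category.id_comp _).trans ((cancel_mono (psi DX DS φ b.hom)).mp ?_)
              refine (pullback.hom_ext ?_ ?_)
              · show (l b ≫ psi DX DS φ b.hom) ≫ _ = ((l a ≫ DX.map c.left) ≫ psi DX DS φ b.hom) ≫ _
                rw [Category.assoc, Category.assoc, Category.assoc, pullback.lift_fst, ← DX.map_comp,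
                  Over.w c, hl1, hl1]
              · show (l b ≫ psi DX DS φ b.hom) ≫ _ = ((l a ≫ DX.map c.left) ≫ psi DX DS φ b.hom) ≫ _
                rw [Category.assoc, Category.assoc, Category.assoc, pullback.lift_snd, φ.naturality, hl2,
                  ← Category.assoc (l a), hl2, Category.assoc, Category.assoc, cS.w] } }
    let hX' := (Functor.Initial.isLimitWhiskerEquiv (Over.forget i₀) cX).symm hX
    let w := hX'.lift C
    have hw : ∀ a : Over i₀, w ≫ cX.π.app a.left = l a := fun a => hX'.fac C a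
    have hwm : w ≫ t = m := by
      refine pullback.hom_ext ?_ ?_
      · rw [Category.assoc, pullback.lift_fst]
        refine (hw (Over.mk (𝟙 i₀))).trans ?_
        have := hl1 (Over.mk (𝟙 i₀))
        simpa using this
      · rw [Category.assoc, pullback.lift_snd]
        refine ((Functor.Initial.isLimitWhiskerEquiv (Over.forget i₀) cS).symm hS).hom_ext fun a => ?_
        show (w ≫ f) ≫ cS.π.app a.left = (m ≫ q) ≫ cS.π.app a.left
        rw [Category.assoc, hf, ← Category.assoc, hw, hl2, Category.assoc]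
    refine ⟨w (IsLocalRing.closedPoint _), ?_⟩
    rw [← Scheme.Hom.comp_apply, hwm]
    exact P.fromSpecResidueField_apply z.1 _
  obtain ⟨T, hT⟩ := (NoetherianSpace.isCompact _).elim_finite_subcover (fun a => (V a)ᶜ)
    (fun a => (hV a).isOpen_compl) hcov
  obtain ⟨c, hc⟩ := IsCofiltered.inf_objs_exists T
  have hmono : ∀ z ∈ V c, ∀ a ∈ T, z ∈ V a := fun z hz a ha => by
    obtain ⟨b⟩ := hc ha
    obtain ⟨w, hw⟩ := hz
    let M : pullback (φ.app i₀) (DS.map c.hom) ⟶ pullback (φ.app i₀) (DS.map a.hom) :=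
      pullback.lift (pullback.fst _ _) (pullback.snd _ _ ≫ DS.map b.left) (by
        rw [pullback.condition, Category.assoc, ← DS.map_comp, Over.w b])
    have h1 : psi DX DS φ c.hom ≫ M = DX.map b.left ≫ psi DX DS φ a.hom := by
      refine pullback.hom_ext ?_ ?_
      · rw [Category.assoc, Category.assoc, pullback.lift_fst, pullback.lift_fst, pullback.lift_fst,
          ← DX.map_comp, Over.w b]
      · rw [Category.assoc, Category.assoc, pullback.lift_snd, pullback.lift_snd, pullback.lift_snd_assoc,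
          φ.naturality]
    have h2 : rStage DX DS φ cS c.hom ≫ M = rStage DX DS φ cS a.hom := by
      refine pullback.hom_ext ?_ ?_
      · rw [Category.assoc, pullback.lift_fst, pullback.lift_fst, pullback.lift_fst]
      · rw [Category.assoc, pullback.lift_snd, pullback.lift_snd, pullback.lift_snd_assoc, Category.assoc, cS.w]
    refine ⟨DX.map b.left w, ?_⟩
    rw [← Scheme.Hom.comp_apply, ← h1, Scheme.Hom.comp_apply, hw, ← Scheme.Hom.comp_apply, h2]
  haveI := hcl c.left i₀ c.hom
  let r := rStage DX DS φ cS c.hom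
  let ψc := psi DX DS φ c.hom
  have hr : IsPullback r q (pullback.snd (φ.app i₀) (DS.map c.hom)) (cS.π.app c.left) :=
    IsPullback.of_right (by
      rw [pullback.lift_fst, cS.w]
      exact IsPullback.of_hasPullback _ _) (pullback.lift_snd _ _ _) (IsPullback.of_hasPullback _ _)
  let t' : pullback ψc r ⟶ P := pullback.snd ψc r
  haveI : IsClosedImmersion t' := MorphismProperty.pullback_snd _ _ ‹_›
  have hsq : IsPullback (pullback.fst ψc r) (t' ≫ q) (φ.app c.left) (cS.π.app c.left) := by
    have := (IsPullback.of_hasPullback ψc r).paste_vert hr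
    rwa [pullback.lift_snd] at this
  have hdim : topologicalKrullDim ↥((φ.app c.left).fiber (cS.π.app c.left s)) ≤ (d : WithBot ℕ∞) := by
    rw [← FibDimLib.topologicalKrullDim_fiber_baseChange hsq s]
    have hmem : ∀ w : ↥((t' ≫ q) ⁻¹' {s}), t' w.1 ∈ Set.range t := fun w => by
      by_contra hw
      obtain ⟨a, ha, h1⟩ := Set.mem_iUnion₂.mp (hT (show (⟨t' w.1, w.2⟩ : Q) ∈ _ from hw))
      refine h1 (hmono _ ⟨pullback.fst ψc r w.1, ?_⟩ a ha)
      exact congrArg (fun ψ : pullback ψc r ⟶ _ => ψ w.1) (pullback.condition (f := ψc) (g := r))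
    choose j hj using hmem
    have hjf : ∀ w, j w ∈ f ⁻¹' {s} := fun w => by
      show f (j w) = s
      rw [show f = t ≫ q from (pullback.lift_snd _ _ _).symm, Scheme.Hom.comp_apply, hj w]
      exact w.2
    let k : ↥((t' ≫ q) ⁻¹' {s}) → ↥(f ⁻¹' {s}) := fun w => ⟨j w, hjf w⟩
    have hk₁ : Topology.IsInducing (fun v : ↥(f ⁻¹' {s}) => t v.1) :=
      htind.comp Topology.IsInducing.subtypeVal
    have hk : Topology.IsInducing k := by
      refine hk₁.of_comp_iff.mp ?_
      rw [show (fun v : ↥(f ⁻¹' {s}) => t v.1) ∘ k = fun w => t' w.1 from funext hj]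
      exact t'.isClosedEmbedding.isInducing.comp Topology.IsInducing.subtypeVal
    exact ((((f.fiberHomeo s).symm.isInducing.comp hk).comp
      ((t' ≫ q).fiberHomeo s).isInducing).topologicalKrullDim_le).trans (hd s)
  refine hx c.left ((FibDimLib.topologicalKrullDim_fiber_le_iff (φ.app c.left) _ _).mp hdim _ ?_)
  show (cX.π.app c.left ≫ φ.app c.left) x = _
  rw [← hf]
  rfl

end Limit

end FibVanLib
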