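import Groth.Agent.NoethApproxLib.ProperBase
import Groth.Agent.DvrProperLib.Closure
import Groth.Agent.FibDimLib.Semicont
import Groth.Agent.FibDimLib.FieldExt

/-!
# Noetherian models of proper morphisms with small fibre dimension
-/

set_option autoImplicit false

universe u

open CategoryTheory CategoryTheory.Limits AlgebraicGeometry Opposite TopologicalSpace RichLib.LimBC
open NoethApproxLib

namespace FibVanLib

theorem noetherianSpace_fibre {X Y : Scheme.{u}} (q : X ⟶ Y) [LocallyOfFiniteType q] [QuasiCompact q] (y : Y) :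
    NoetherianSpace ↥(q ⁻¹' {y}) := by
  have : LocallyOfFiniteType (q.fiberToSpecResidueField y) :=
    inferInstanceAs (LocallyOfFiniteType (pullback.snd _ _))
  have : IsLocallyNoetherian (q.fiber y) := LocallyOfFiniteType.isLocallyNoetherian (q.fiberToSpecResidueField y)
  have : CompactSpace (q.fiber y) :=
    have : QuasiCompact (q.fiberToSpecResidueField y) := inferInstanceAs (QuasiCompact (pullback.snd _ _))
    QuasiCompact.compactSpace_of_compactSpace (q.fiberToSpecResidueField y)
  have : AlgebraicGeometry.IsNoetherian (q.fiber y) := {}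
  exact (q.fiberHomeo y).symm.isInducing.noetherianSpace

section Stage

variable {S : Scheme.{u}} (B : Approx S) (b : B.J) {Z : Scheme.{u}} (p : Z ⟶ B.obj b) [IsProper p]
  {X : Scheme.{u}} (ι : X ⟶ pullback p (B.proj b)) [IsClosedImmersion ι]

/-- A point of the limit lying in all images lies in the closed subscheme. -/
theorem mem_range_of_forall_mem (z : (pullback p (B.proj b) : Scheme.{u}))
    (hz : ∀ c, (baseApprox B b p).proj c z ∈ Set.range (imgι (baseApprox B b p) ι c)) :
    z ∈ Set.range ι := by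
  let P : Scheme.{u} := pullback p (B.proj b)
  let m : Spec (P.residueField z) ⟶ P := P.fromSpecResidueField z
  have hl : ∀ c, ∃ l, l ≫ imgι (baseApprox B b p) ι c = m ≫ (baseApprox B b p).proj c := fun c => by
    have hr : Set.range (m ≫ (baseApprox B b p).proj c) ⊆ Set.range (imgι (baseApprox B b p) ι c) := by
      rintro _ ⟨w, rfl⟩
      rw [Scheme.Hom.comp_apply, show m w = z from P.fromSpecResidueField_apply z w]
      exact hz c
    refine ⟨IsClosedImmersion.lift _ _ ?_, IsClosedImmersion.lift_fac _ _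
      (DvrProperLib.ker_le_ker_of_range_subset _ _ hr)⟩
    exact DvrProperLib.ker_le_ker_of_range_subset _ _ hr
  have hker : ι.ker ≤ m.ker := ker_le_of_factors (baseApprox B b p) ι m hl
  have e : IsClosedImmersion.lift ι m hker ≫ ι = m := IsClosedImmersion.lift_fac _ _ _
  let w₀ : Spec (P.residueField z) := IsLocalRing.closedPoint _
  refine ⟨IsClosedImmersion.lift ι m hker w₀, ?_⟩
  rw [← Scheme.Hom.comp_apply, e]
  exact P.fromSpecResidueField_apply z w₀

theorem stage_mono {c c' : (baseApprox B b p).J} (h : c ≤ c') {z : (pullback p (B.proj b) : Scheme.{u})}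
    (hz : (baseApprox B b p).proj c' z ∈ Set.range (imgι (baseApprox B b p) ι c')) :
    (baseApprox B b p).proj c z ∈ Set.range (imgι (baseApprox B b p) ι c) := by
  obtain ⟨w, hw⟩ := hz
  refine ⟨imgMap (baseApprox B b p) ι h w, ?_⟩
  rw [← Scheme.Hom.comp_apply, imgMap_ι, Scheme.Hom.comp_apply, hw, ← Scheme.Hom.comp_apply, Approx.proj_map]

/-- Some stage has a fibre no bigger than the fibre of the limit. -/
theorem exists_stage_fibre_dim (s : S) {d : WithBot ℕ∞}
    (hd : topologicalKrullDim ↥((ι ≫ pullback.snd p (B.proj b)).fiber s) ≤ d) :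
    ∃ c : (baseApprox B b p).J, topologicalKrullDim
      ↥((imgι (baseApprox B b p) ι c ≫ pullback.snd p (B.map c.2)).fiber (B.proj c.1 s)) ≤ d := by
  let P : Scheme.{u} := pullback p (B.proj b)
  let q : P ⟶ S := pullback.snd p (B.proj b)
  let Q : Set P := q ⁻¹' {s}
  have hQ : NoetherianSpace Q := noetherianSpace_fibre q s
  let V : (baseApprox B b p).J → Set Q := fun c =>
    Subtype.val ⁻¹' ((baseApprox B b p).proj c ⁻¹' Set.range (imgι (baseApprox B b p) ι c))
  have hV : ∀ c, IsClosed (V c) := fun c =>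
    (((imgι (baseApprox B b p) ι c).isClosedEmbedding.isClosed_range).preimage
      ((baseApprox B b p).proj c).continuous).preimage continuous_subtype_val
  have hcov : (Subtype.val ⁻¹' Set.range ι : Set Q)ᶜ ⊆ ⋃ c, (V c)ᶜ := fun z hz => by
    rw [Set.mem_iUnion]
    by_contra h
    simp only [Set.mem_compl_iff, not_exists, not_not] at h
    exact hz (mem_range_of_forall_mem B b p ι z.1 h)
  obtain ⟨t, ht⟩ := (NoetherianSpace.isCompact _).elim_finite_subcover (fun c => (V c)ᶜ)
    (fun c => (hV c).isOpen_compl) hcov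
  obtain ⟨c, hc⟩ := t.exists_le
  refine ⟨c, ?_⟩
  let φ := imgι (baseApprox B b p) ι c ≫ pullback.snd p (B.map c.2)
  let t' : closedAt (baseApprox B b p) ι c ⟶ P := closedι (baseApprox B b p) ι c
  have hsq : IsPullback (pullback.fst _ _) (t' ≫ q) φ (B.proj c.1) :=
    (IsPullback.of_hasPullback (imgι (baseApprox B b p) ι c) ((baseApprox B b p).proj c)).paste_vert
      (isPullback_cone (tailSys B b) p (op c))
  have : LocallyOfFiniteType φ :=
    MorphismProperty.comp_mem @LocallyOfFiniteType (imgι (baseApprox B b p) ι c) (pullback.snd p (B.map c.2))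
      inferInstance (lft_snd p (B.map c.2))
  rw [← FibDimLib.topologicalKrullDim_fiber_baseChange hsq s]
  -- into the fibre of the limit
  have hmem : ∀ w : ↥((t' ≫ q) ⁻¹' {s}), t' w.1 ∈ Set.range ι := fun w => by
    by_contra hw
    obtain ⟨c₁, hc₁, h1⟩ := Set.mem_iUnion₂.mp (ht (show (⟨t' w.1, w.2⟩ : Q) ∈ _ from hw))
    refine h1 (stage_mono B b p ι (hc c₁ hc₁) ⟨(pullback.fst _ _ : closedAt (baseApprox B b p) ι c ⟶ _) w.1, ?_⟩)
    exact congrArg (fun ψ : closedAt (baseApprox B b p) ι c ⟶ (baseApprox B b p).obj c => ψ w.1)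
      (pullback.condition (f := imgι (baseApprox B b p) ι c) (g := (baseApprox B b p).proj c))
  choose j hj using hmem
  have hjf : ∀ w, j w ∈ (ι ≫ q) ⁻¹' {s} := fun w => by
    show (ι ≫ q) (j w) = s
    rw [Scheme.Hom.comp_apply, hj w]
    exact w.2
  let k : ↥((t' ≫ q) ⁻¹' {s}) → ↥((ι ≫ q) ⁻¹' {s}) := fun w => ⟨j w, hjf w⟩
  have hk₁ : Topology.IsInducing (fun v : ↥((ι ≫ q) ⁻¹' {s}) => ι v.1) :=
    ι.isClosedEmbedding.isInducing.comp Topology.IsInducing.subtypeVal
  have hk : Topology.IsInducing k := by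
    refine hk₁.of_comp_iff.mp ?_
    rw [show (fun v : ↥((ι ≫ q) ⁻¹' {s}) => ι v.1) ∘ k = fun w => t' w.1 from funext hj]
    exact (closedι (baseApprox B b p) ι c).isClosedEmbedding.isInducing.comp Topology.IsInducing.subtypeVal
  exact (((((ι ≫ q).fiberHomeo s).symm.isInducing.comp hk).comp
    ((t' ≫ q).fiberHomeo s).isInducing).topologicalKrullDim_le).trans hd

end Stage

end FibVanLib
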