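import Groth.Agent.FibVanLib.TopFinite

/-!
# Cohomology in the top degree is spanned along affine morphisms
-/

set_option autoImplicit false
set_option maxHeartbeats 800000

universe u v

open CategoryTheory CategoryTheory.Limits AlgebraicGeometry TopologicalSpace Opposite
open GradedCechLib (Sys Cochain rng dd rng_nonempty)
open FormalLib

namespace FibVanLib

variable {A₀ A : Type u} [CommRing A₀] [CommRing A] [Algebra A₀ A]
  {Y : Scheme.{u}} [Y.Over (Spec (CommRingCat.of A₀))]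
  {X : Scheme.{u}} [X.Over (Spec (CommRingCat.of A))]
  (u : X ⟶ Y) {m : ℕ} (U : Fin m → Y.Opens) {F : X.Modules}

/-- Cochains upstairs from a map into the direct image. -/
noncomputable def Tmap {G : Y.Modules} (φ : G ⟶ (Coh.push u).obj F) (q : ℕ) :
    Cochain (sysOf A₀ U G) q →+ Cochain (sysOf A (preV u U) F) q :=
  (cochEquiv (A₀ := A₀) (A := A) u U F q).toAddMonoidHom.comp (cochainMap (sysMap U φ) q).toAddMonoidHom

theorem Tmap_dd {G : Y.Modules} (φ : G ⟶ (Coh.push u).obj F) (q : ℕ) (c : Cochain (sysOf A₀ U G) q) :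
    Tmap (A := A) u U φ (q + 1) (dd _ q c) = dd _ q (Tmap (A₀ := A₀) (A := A) u U φ q c) := by
  show cochEquiv (A₀ := A₀) (A := A) u U F (q + 1) (cochainMap (sysMap U φ) (q + 1) (dd _ q c)) = _
  rw [← dd_cochainMap, cochEquiv_dd]
  rfl

/-- Cocycles upstairs. -/
noncomputable def Tz {G : Y.Modules} (φ : G ⟶ (Coh.push u).obj F) (q : ℕ) (c : Zc (sysOf A₀ U G) q) :
    Zc (sysOf A (preV u U) F) q :=
  ⟨Tmap u U φ q c.1, LinearMap.mem_ker.2 (by rw [← Tmap_dd, LinearMap.mem_ker.1 c.2, map_zero])⟩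

theorem Tz_smul (hu : u ≫ (Y ↘ Spec (CommRingCat.of A₀)) =
      (X ↘ Spec (CommRingCat.of A)) ≫ Spec.map (CommRingCat.ofHom (algebraMap A₀ A)))
    {G : Y.Modules} (φ : G ⟶ (Coh.push u).obj F) (q : ℕ) (b : A₀) (c : Zc (sysOf A₀ U G) q) :
    Tz (A := A) u U φ q (b • c) = algebraMap A₀ A b • Tz u U φ q c := by
  refine Subtype.ext ?_
  show cochEquiv (A₀ := A₀) (A := A) u U F q (cochainMap (sysMap U φ) q (b • c.1)) = _
  rw [map_smul, cochEquiv_smul u hu]
  rfl

/-- A cochain whose values are spanned by images is spanned by images of cochains. -/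
theorem cochain_mem_span {ι' : Type v} {G : ι' → Y.Modules} (φ : ∀ i, G i ⟶ (Coh.push u).obj F) (d : ℕ)
    (z : Cochain (sysOf A (preV u U) F) d)
    (hz : ∀ J, z J ∈ Submodule.span A (Set.range fun q : Σ i, Sec A₀ (G i) ((rng J).inf U) =>
      capEquiv (A₀ := A₀) (A := A) u U F (rng J) (secMap (φ q.1) _ q.2))) :
    z ∈ Submodule.span A (Set.range fun q : Σ i, Cochain (sysOf A₀ U (G i)) d => Tmap u U (φ q.1) d q.2) := by
  classical
  rw [← Finset.univ_sum_single z]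
  refine Submodule.sum_mem _ fun J _ => ?_
  have h2 := Submodule.mem_map_of_mem
    (f := LinearMap.single A (fun J : Fin (d + 1) → Fin m => ((sysOf A (preV u U) F).obj (rng J) : Type u)) J)
    (hz J)
  refine Submodule.span_le.2 ?_ (Submodule.map_span (LinearMap.single A
    (fun J : Fin (d + 1) → Fin m => ((sysOf A (preV u U) F).obj (rng J) : Type u)) J) _ ▸ h2)
  rintro _ ⟨_, ⟨⟨i, y⟩, rfl⟩, rfl⟩
  refine Submodule.subset_span ⟨⟨i, Pi.single J y⟩, funext fun J' => ?_⟩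
  show capEquiv (A₀ := A₀) (A := A) u U F (rng J')
    (secMap (A := A₀) (φ i) _ ((Pi.single J y : Cochain (sysOf A₀ U (G i)) d) J')) = _
  by_cases hJ : J' = J
  · subst hJ
    simp [LinearMap.single_apply]
  · simp [LinearMap.single_apply, Pi.single_eq_of_ne hJ]
    exact (congrArg _ (map_zero _)).trans (map_zero _)

variable (C : Setup A₀ Y) [IsAffineHom u]
  (κ : ∀ (N : X.Modules), Coh.IsQCoh N → ∀ p : ℕ, Zc (sysOf A (preV u C.V) N) p →ₗ[A] Coh.HH X N p)
  (hκk : ∀ N hN p (z : Zc (sysOf A (preV u C.V) N) (p + 1)), κ N hN (p + 1) z = 0 ↔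
    (z : Cochain (sysOf A (preV u C.V) N) (p + 1)) ∈ Bc (sysOf A (preV u C.V) N) p)

omit [IsAffineHom u] in
include hκk in
theorem cls_Tz_eq_zero (hF : Coh.IsQCoh F) {G : Y.Modules} (hG : Coh.IsQCoh G)
    (φ : G ⟶ (Coh.push u).obj F) (d : ℕ) (c : Zc (sysOf A₀ C.V G) d) (hc : C.κ G hG d c = 0) :
    κ F hF d (Tz u C.V φ d c) = 0 := by
  rcases d with _ | q
  · have : c = 0 := C.inj G hG (hc.trans (map_zero _).symm)
    rw [this, show Tz u C.V φ 0 (0 : Zc (sysOf A₀ C.V G) 0) = 0 from Subtype.ext (map_zero (Tmap u C.V φ 0))]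
    exact map_zero _
  · obtain ⟨w, hw⟩ := (C.kills G hG q c).1 hc
    refine (hκk F hF q _).2 ⟨Tmap u C.V φ q w, ?_⟩
    rw [← Tmap_dd, hw]
    rfl

include hκk in
/-- **Spanning in the top degree.** -/
theorem cls_mem_span (hF : Coh.IsQCoh F) (d : ℕ)
    (hvan : ∀ (N : Y.Modules), Coh.IsQCoh N → Subsingleton (Coh.HH Y N (d + 1)))
    {ι' : Type v} {G : ι' → Y.Modules} (hG : ∀ i, Coh.IsQCoh (G i)) (φ : ∀ i, G i ⟶ (Coh.push u).obj F)
    (z : Zc (sysOf A (preV u C.V) F) d)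
    (hz : z.1 ∈ Submodule.span A
      (Set.range fun q : Σ i, Cochain (sysOf A₀ C.V (G i)) d => Tmap u C.V (φ q.1) d q.2)) :
    κ F hF d z ∈ Submodule.span A
      (Set.range fun q : Σ i, Zc (sysOf A₀ C.V (G i)) d => κ F hF d (Tz u C.V (φ q.1) d q.2)) := by
  classical
  haveI : Coh.IsQCoh F := hF
  let N : Y.Modules := (Coh.push u).obj F
  haveI : Coh.IsQCoh N := QCohLib.isQCoh_pushforward u F
  obtain ⟨k, a, c, hc⟩ := Submodule.mem_span_set'.1 hz
  choose c₀ hc₀ using fun i => (c i).2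
  let Gk : ULift.{u} (Fin k) → Y.Modules := fun i => G (c₀ i.down).1
  haveI : Coh.IsQCoh (∐ Gk) := QCohLib.isQCoh_sigma _ fun i => hG _
  let P : Y.Modules := ⨁ Gk
  haveI : Coh.IsQCoh P := QCohLib.isQCoh_of_iso (biproduct.isoCoproduct _).symm
  let ψ : ∀ i : ULift.{u} (Fin k), Gk i ⟶ N := fun i =>
    φ (c₀ i.down).1 ≫ (Coh.push u).map (Formal.smulMod A F (a i.down))
  let Φ : P ⟶ N := ∑ i, biproduct.π Gk i ≫ ψ i
  let ct : Cochain (sysOf A₀ C.V P) d :=
    ∑ i, cochainMap (sysMap C.V (biproduct.ι Gk i)) d (c₀ i.down).2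
  have hπ : ∀ i, cochainMap (sysMap C.V (biproduct.π Gk i)) d ct = (c₀ i.down).2 := by
    intro i
    rw [map_sum, Finset.sum_eq_single i]
    · rw [← cochainMap_comp, biproduct.ι_π_self]; rfl
    · intro j _ hj
      rw [← cochainMap_comp, biproduct.ι_π_ne _ hj]; rfl
    · exact fun h => absurd (Finset.mem_univ i) h
  have hΦ : ∀ w : Cochain (sysOf A₀ C.V P) d,
      cochEquiv (A₀ := A₀) (A := A) u C.V F d (cochainMap (sysMap C.V Φ) d w) =
        ∑ i, a i.down • Tmap u C.V (φ (c₀ i.down).1) d (cochainMap (sysMap C.V (biproduct.π Gk i)) d w) :=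
    fun w => by
      rw [cochainMap_sum, map_sum]
      refine Finset.sum_congr rfl fun i _ => ?_
      exact cochEquiv_smulMod u C.V F d (a i.down) _
  have hzct : cochEquiv (A₀ := A₀) (A := A) u C.V F d (cochainMap (sysMap C.V Φ) d ct) = z.1 := by
    rw [hΦ, ← hc]
    simp only [hπ, hc₀]
    exact (Equiv.ulift.sum_comp (fun i => a i • ((c i : _) : Cochain (sysOf A (preV u C.V) F) d)))
  have hK : (ShortComplex.mk _ _ (kernel.condition Φ)).Exact :=
    ShortComplex.exact_of_f_is_kernel _ (kernelIsKernel Φ)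
  haveI : Coh.IsQCoh (kernel Φ) := QCohLib.isQCoh_kernel Φ
  have h0 : cochainMap (sysMap C.V Φ) (d + 1) (dd _ d ct) = 0 := by
    apply (cochEquiv (A₀ := A₀) (A := A) u C.V F (d + 1)).injective
    rw [← dd_cochainMap, cochEquiv_dd, hzct, map_zero, LinearMap.mem_ker.1 z.2]
  choose e₁ he₁ using fun J => QCohLib.exists_of_app_eq_zero hK (inferInstanceAs (Mono (kernel.ι Φ)))
    _ (congrFun h0 J)
  have hinj : ∀ q, Function.Injective (cochainMap (sysMap (A := A₀) C.V (kernel.ι Φ)) q) := fun q v w h =>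
    funext fun J => QCohLib.app_injective_of_mono (kernel.ι Φ) _ (congrFun h J)
  have he₁' : cochainMap (sysMap C.V (kernel.ι Φ)) (d + 1) e₁ = dd (sysOf A₀ C.V P) d ct := funext he₁
  have he₁z : dd (sysOf A₀ C.V (kernel Φ)) (d + 1) e₁ = 0 := hinj (d + 2) (by
    rw [← dd_cochainMap, he₁', dd_dd, map_zero])
  obtain ⟨w, hw⟩ := (C.kills (kernel Φ) inferInstance d ⟨e₁, LinearMap.mem_ker.2 he₁z⟩).1
    ((hvan (kernel Φ) inferInstance).elim _ _)
  let ct' : Zc (sysOf A₀ C.V P) d := ⟨ct - cochainMap (sysMap C.V (kernel.ι Φ)) d w, LinearMap.mem_ker.2 (by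
    rw [map_sub, dd_cochainMap, hw, he₁', sub_self])⟩
  have hz' : z.1 = ∑ i, a i.down •
      Tmap u C.V (φ (c₀ i.down).1) d (cochainMap (sysMap C.V (biproduct.π Gk i)) d ct'.1) := by
    rw [← hΦ, map_sub, ← cochainMap_comp, kernel.condition, map_sub, hzct]
    refine (sub_eq_self.2 ?_).symm
    exact map_zero _
  have hz'' : z = ∑ i, a i.down •
      Tz u C.V (φ (c₀ i.down).1) d (zMap (sysMap C.V (biproduct.π Gk i)) d ct') := by
    refine Subtype.ext (hz'.trans ?_)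
    rw [Submodule.coe_sum]
    rfl
  rw [hz'', map_sum]
  refine Submodule.sum_mem _ fun i _ => ?_
  rw [map_smul]
  exact Submodule.smul_mem _ _ (Submodule.subset_span ⟨⟨(c₀ i.down).1, _⟩, rfl⟩)

end FibVanLib
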